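import Cfsg.Agent.H781.TC6.Odd_m3
import Cfsg.Agent.H137.G24.Fin_mg
import Cfsg.Agent.H961.TF8.Zero_mg_m3
import Cfsg.Agent.LieClassical.OrthCenter
import Mathlib
import Cfsg.Agent.H434.CornMain
import Cfsg.Agent.LieClassical.OrthCore
import Cfsg.Agent.FastGrp
import Cfsg.Agent.Prune
set_option linter.all false
prune_inst 0x7ffdedffbbf8fbffdfff7e7fa69eeffdfbbfbfffa6dff9cbffe0e9ffab9f7b1a49c56bad8fea11fe0ed7e21410f87b53fbfffeffe36bd87ffffd1ff41ffbffdffdf7b50851d68c340fbc0fff03f0778e7f3fffffffffffffffffffffffffffbeffbfffffffff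
open scoped Cfsg.Agent.FastGrp

-- part: H455/TW/NegRefl
section
/-!
# Box E of `Ω_(2n+1)(q)`, `q` odd, `n` even (helper455): minus a reflection

`neg_refl` : an element `-r_z` of `Ω` is a product of a conjugate of `lev X₀ 1` and a conjugate of `lev Y₀ 1`,
where `X₀ * Y₀ = -1`.
-/

set_option autoImplicit false

namespace Cfsg.Agent.H455.TW

open Module QuadraticMap Matrix Cfsg.Agent.LieClassical.OrthCore Cfsg.Agent.LieClassical.OrthTrans
  Cfsg.Agent.H140.OreO Cfsg.Agent.H141.SpinFacts Cfsg.Agent.H140.TL Cfsg.Agent.H160.QSpin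

variable {F V : Type*} [Field F] [AddCommGroup V] [Module F V] {Q : QuadraticForm F V} {n : ℕ}

/-- one orbit of vectors of the same nonzero norm -/
theorem exists_map (h2 : (2 : F) ≠ 0) {x y : V} (hx : Q x ≠ 0) (h : Q x = Q y) : ∃ S ∈ O Q, S x = y := by
  by_cases hv : Q (x - y) = 0
  · have hs : Q (x - (-y)) ≠ 0 := by
      intro h0
      rw [sub_neg_eq_add, Q_add] at h0
      rw [sub_eq_add_neg, Q_add, QuadraticMap.map_neg, polar_neg_right] at hv
      have h4 : (2 * 2) * Q x = 0 := by linear_combination h0 + hv + 2 * h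
      exact mul_ne_zero (mul_ne_zero h2 h2) hx h4
    refine ⟨LinearEquiv.neg F * refl Q (x - (-y)) hs, (O Q).mul_mem neg_mem_O (refl_mem_O hs), ?_⟩
    change -(refl Q (x - (-y)) hs x) = y
    rw [refl_sub_apply (by rw [QuadraticMap.map_neg, h]) hs, neg_neg]
  · exact ⟨refl Q (x - y) hv, refl_mem_O hv, refl_sub_apply h.symm hv⟩

theorem ti_neg_one : ti (-1 : GL (Fin n) F) = -1 := by
  apply Units.ext
  rw [ti_coe, inv_neg, inv_one, Units.val_neg, Units.val_one, transpose_neg, transpose_one]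

/-- `lev (-1) 1` is minus a reflection. -/
theorem exists_v0 [FiniteDimensional F V] (h2 : (2 : F) ≠ 0) (hQ : Nondeg Q) (hdim : finrank F V = 2 * n + 1)
    {e e' : Fin n → V} (hf : Frame Q e e') :
    ∃ v₀ : V, ∃ h₀ : Q v₀ ≠ 0,
      (autE hf.toModel).symm (lev (-1 : GL (Fin n) F) (1 : perp Q e e' ≃ₗ[F] perp Q e e')) =
        LinearEquiv.neg F * refl Q v₀ h₀ := by
  have hp := hf.finrank_perp
  have h1 : finrank F (perp Q e e') = 1 := by omega
  obtain ⟨v₀, hv₀, hs⟩ := finrank_eq_one_iff'.1 h1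
  have hq : Q (v₀ : V) ≠ 0 := by
    intro h0
    apply hv₀
    apply hf.nondeg_res hQ
    intro y
    obtain ⟨c, rfl⟩ := hs y
    rw [polar_smul_right, polar_self', res_apply, h0, mul_zero, smul_zero]
  refine ⟨v₀, hq, ?_⟩
  rw [MulEquiv.symm_apply_eq]
  apply LinearEquiv.ext
  intro x
  rw [autE_apply]
  apply hf.toModel.symm.injective
  rw [LinearEquiv.symm_apply_apply]
  obtain ⟨c, hc⟩ := hs x.2.1
  have e1 : (x.2.1 : V) = c • (v₀ : V) := by rw [← hc]; rfl
  have e2 : polar Q (v₀ : V) (hf.toModel.symm x) = c * (2 * Q (v₀ : V)) := by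
    rw [hf.toModel_symm_apply, polar_add_right, polar_add_right, polar_comm Q _ (∑ i, x.1 i • e i),
      Frame.polar_perp_l _ v₀.2, polar_comm Q _ (∑ i, x.2.2 i • e' i), Frame.polar_perp_r _ v₀.2, e1,
      polar_smul_right, polar_self', smul_eq_mul]
    ring
  have e3 : (LinearEquiv.neg F * refl Q (v₀ : V) hq : V ≃ₗ[F] V) (hf.toModel.symm x) =
      -(hf.toModel.symm x - ((Q (v₀ : V))⁻¹ * polar Q (v₀ : V) (hf.toModel.symm x)) • (v₀ : V)) := by
    rw [← refl_apply hq]
    rfl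
  have e4 : (Q (v₀ : V))⁻¹ * (c * (2 * Q (v₀ : V))) = 2 * c := by field_simp
  rw [e3, e2, e4, hf.toModel_symm_apply, hf.toModel_symm_apply, lev_apply, ti_neg_one]
  simp only [Units.val_neg, Units.val_one, neg_mulVec, one_mulVec, Pi.neg_apply, neg_smul, Finset.sum_neg_distrib]
  have e5 : (((1 : perp Q e e' ≃ₗ[F] perp Q e e') x.2.1 : perp Q e e') : V) = c • (v₀ : V) := e1
  rw [e5, e1]
  module

/-- **Box E.** -/
theorem neg_refl [Finite F] [FiniteDimensional F V] (h2 : (2 : F) ≠ 0) (hQ : Nondeg Q)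
    (hdim : finrank F V = 2 * n + 1) (hn : 1 ≤ n) (hne : Even n) {e e' : Fin n → V} (hf : Frame Q e e')
    {X₀ Y₀ T T' : GL (Fin n) F} (hXY : X₀ * Y₀ = -1)
    (hTX : T * X₀ = X₀ * T) (hT : ¬ IsSquare (T : Matrix (Fin n) (Fin n) F).det)
    (hTY : T' * Y₀ = Y₀ * T') (hT' : ¬ IsSquare (T' : Matrix (Fin n) (Fin n) F).det)
    {g : V ≃ₗ[F] V} (hg : g ∈ Om Q) {z : V} (hz : Q z ≠ 0) (hgz : ∀ v, g v = (polar Q z v / Q z) • z - v) :
    ∃ u ∈ Om Q, ∃ v ∈ Om Q,
      g = (u * (autE hf.toModel).symm (lev X₀ 1) * u⁻¹) * (v * (autE hf.toModel).symm (lev Y₀ 1) * v⁻¹) := by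
  have : Finite V := Module.finite_of_finite F
  have he : ∀ v, MQ n (res Q e e') (hf.toModel v) = Q v := hf.MQ_toModel
  have hp := hf.finrank_perp
  have h1 : finrank F (perp Q e e') = 1 := by omega
  have hodd' : Odd (finrank F (perp Q e e')) := by rw [h1]; exact odd_one
  have hnd := hf.nondeg_res hQ
  obtain ⟨v₀, h₀, hw⟩ := exists_v0 h2 hQ hdim hf
  -- `g = -r_z`
  have hg' : g = LinearEquiv.neg F * refl Q z hz := by
    apply LinearEquiv.ext
    intro v
    rw [hgz]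
    change _ = -(refl Q z hz v)
    rw [refl_apply, neg_sub, div_eq_inv_mul]
  have hN : ∀ h : V ≃ₗ[F] V, LinearEquiv.neg F * h = h * LinearEquiv.neg F := by
    intro h
    apply LinearEquiv.ext
    intro v
    change -(h v) = h (-v)
    rw [map_neg]
  -- `lev (-1) 1 ∈ Ω`
  have hfr := finrank_M (F := F) (V := perp Q e e') (n := n)
  have hMn : Nondeg (MQ n (res Q e e')) := nondeg_MQ hnd
  have : Finite (M F (perp Q e e') n) := inferInstance
  have hwO : lev (-1 : GL (Fin n) F) (1 : perp Q e e' ≃ₗ[F] perp Q e e') ∈ Om (MQ n (res Q e e')) := by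
    refine mem_Om_of_odd' h2 hMn (by rw [hfr, h1]; omega) (lev_mem (O _).one_mem) ?_ ?_
    · rw [det_lev, map_one]
    · have h4 := spin_levGL (n := n) (Q := res Q e e') h2 (-1)
      have h5 : levGL n (res Q e e') (-1) = ⟨lev (-1) 1, lev_mem (O (res Q e e')).one_mem⟩ := rfl
      rw [h5] at h4
      rw [h4, chi_eq_one_iff, Units.val_neg, Units.val_one, det_neg, det_one, mul_one, Fintype.card_fin,
        hne.neg_one_pow]
      exact IsSquare.one
  have hwO' : LinearEquiv.neg F * refl Q v₀ h₀ ∈ Om Q := by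
    rw [← hw, ← autE_mem_Om he, MulEquiv.apply_symm_apply]
    exact hwO
  -- norms
  have hsq : IsSquare (Q z * Q v₀) := by
    apply isSquare_of_refl_mul_refl h2 hz h₀
    have h6 := (Om Q).mul_mem hg ((Om Q).inv_mem hwO')
    have h7 : g * (LinearEquiv.neg F * refl Q v₀ h₀)⁻¹ = refl Q z hz * refl Q v₀ h₀ := by
      rw [hg', _root_.mul_inv_rev, refl_inv, ← mul_assoc, mul_assoc (LinearEquiv.neg F : V ≃ₗ[F] V), hN, mul_assoc,
        mul_inv_cancel, mul_one]
    rw [h7] at h6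
    exact h6
  obtain ⟨c, hc⟩ := hsq
  have hc0 : c ≠ 0 := by
    rintro rfl
    rw [mul_zero] at hc
    exact mul_ne_zero hz h₀ hc
  have hcz : c / Q z ≠ 0 := div_ne_zero hc0 hz
  have hy : Q v₀ = Q ((c / Q z) • z) := by
    rw [QuadraticMap.map_smul, smul_eq_mul, div_mul_div_comm, ← hc]
    field_simp
  obtain ⟨S, hS, hSv⟩ := exists_map h2 h₀ hy
  have hy0 : Q ((c / Q z) • z) ≠ 0 := by rw [← hy]; exact h₀
  have hconj : S * (LinearEquiv.neg F * refl Q v₀ h₀) * S⁻¹ = g := by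
    have h8 : Q (S v₀) ≠ 0 := by rw [hSv]; exact hy0
    have h9 : refl Q (S v₀) h8 = refl Q z hz := by
      rw [← refl_smul hz hcz hy0]
      congr 1
    rw [hg', ← h9, ← refl_conj hS h₀ h8, ← mul_assoc, ← hN S, mul_assoc, mul_assoc, mul_assoc]
  refine back hf hS (g' := LinearEquiv.neg F * refl Q v₀ h₀) (by rw [← hconj]; group)
    (fun S hS => class_model h2 hnd hodd' hn hTX hT (O _).one_mem hS)
    (fun S hS => class_model h2 hnd hodd' hn hTY hT' (O _).one_mem hS) ⟨1, (O _).one_mem, 1, (O _).one_mem, ?_⟩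
  simp only [← hw, MulEquiv.apply_symm_apply, ← hXY, one_mul, one_mul, inv_one, mul_one, mul_one, ← lev_mul, one_mul]

end Cfsg.Agent.H455.TW
end

-- part: H781/TC6/Row
section
/-!
# S2464, S2452, `Ω_(2n+1)(q)`, `q` odd: rows from Theorem L (helper781)

* `t6_odd_TL` : all `n ≥ 3`, except `n = 4`, `q ≠ 3 ^ k`, `k ≥ 2`.
* `pp_odd_TL` : `n` odd, one class of prime order.
-/

set_option autoImplicit false
set_option linter.unusedSectionVars false

namespace Cfsg.Agent.H781.TC6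

open Module QuadraticMap Matrix Polynomial Cfsg.Agent.LieClassical.OrthCore Cfsg.Agent.LieClassical.OrthTrans
  Cfsg.Agent.LieClassical.OrthFinite Cfsg.Agent.LieClassical.OrthForms Cfsg.Agent.H140.OreO Cfsg.Agent.H126.PwO
  Cfsg.Agent.H962.PP Cfsg.Agent.H141.SpinFacts
open Cfsg.Agent.H434.Corn (MaxTS)
open Cfsg.Agent.H140.TC

section Fin

variable {F V : Type*} [Field F] [AddCommGroup V] [Module F V] {Q : QuadraticForm F V} [Finite F]
  [FiniteDimensional F V]

end Fin

/-- good polynomials of prime order, `n` odd -/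
theorem exists_gf_prime {F : Type*} [Field F] [Fintype F] (hodd : Odd (Fintype.card F)) {n : ℕ} (hn : 3 ≤ n)
    (hno : Odd n) : ∃ (N : ℕ) (f : F[X]), N.Coprime 6 ∧ N.Prime ∧ GF n N f := by
  have hodd' : Odd (Nat.card F) := by rw [Nat.card_eq_fintype_card]; exact hodd
  have hq : 2 ≤ Nat.card F := Finite.one_lt_card
  have hq2 : Nat.card F ≠ 2 := by intro h; rw [h] at hodd'; exact absurd hodd' (by decide)
  obtain ⟨r, hr, h5, hiff⟩ := Cfsg.Agent.H311.TC6.exists_five hq hn (by rintro ⟨h, -⟩; exact hq2 h)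
  have hrq : ¬ r ∣ Nat.card F - 1 := by
    intro h
    have := Nat.le_of_dvd (by norm_num) ((hiff 1).1 (by rwa [pow_one]))
    omega
  obtain ⟨f, m1, m2, m3, m4, m5, m6⟩ := Cfsg.Agent.H311.TC6.pf_of F (n := n) (N := r) (by omega)
    ((hiff n).2 dvd_rfl) (fun k hk hkn h => by
      have := Nat.le_of_dvd hk ((hiff k).1 h)
      omega) (fun j hj h => by
      obtain ⟨h0, h1⟩ := Cfsg.Agent.H311.TC6.not_dvd_add h5 hiff hj h
      rw [h1] at hno
      exact (Nat.not_odd_iff_even.2 ⟨j, by ring⟩) hno) ((Nat.Prime.coprime_iff_not_dvd hr).2 hrq)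
  have h0 : f.coeff 0 ≠ 0 := by
    intro h
    rw [h, mul_zero] at m6
    exact zero_ne_one m6
  have h6 : r.Coprime 6 := by
    rw [Nat.Prime.coprime_iff_not_dvd hr]
    intro h
    have h7 : r ∣ 2 * 3 := h
    rcases (Nat.Prime.dvd_mul hr).1 h7 with h8 | h8
    · have := Nat.le_of_dvd (by norm_num) h8; omega
    · have := Nat.le_of_dvd (by norm_num) h8; omega
  exact ⟨r, f, h6, hr, m1, m2, m3, m4, (m5 r).2 dvd_rfl, m6,
    fun A c hA => Cfsg.Agent.H311.TC6.ex_of m1 m2 m3 hn m5 h0 hr h5 dvd_rfl hiff (Or.inl hno) A c hA,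
    fun A hA => Cfsg.Agent.H311.TC6.nsq_of hodd' m1 m2 m3 (by omega) hA⟩

end Cfsg.Agent.H781.TC6
end

-- part: H370/TW/Cube
section
/-!
# S2452, `Ω_(2n+1)(q)`, `q` odd, `n` even: orders, cube clause, wrapper (helper370)

* `Dat r Q x₀ y₀` : the data for `T52`.
* `t52_of_dat` : `Dat r Q x₀ y₀ → T52 (POmega F Q)`, `r` an odd prime, centre of `Omega` trivial.
* `dat_of` : the data in a Siegel frame, `x₀ = lev (diag (1, B)) 1`, `y₀ = lev (diag (-1, -D)) 1`.
* `t52_odd_of` : the row from the covering statement `TwoOf`.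
-/

set_option autoImplicit false
set_option linter.unusedSectionVars false

namespace Cfsg.Agent.H370.TW

open Module QuadraticMap Matrix Polynomial Cfsg.Agent.LieClassical Cfsg.Agent.LieClassical.OrthCore
  Cfsg.Agent.LieClassical.OrthTrans Cfsg.Agent.LieClassical.OrthFinite Cfsg.Agent.LieClassical.OrthForms
  Cfsg.Agent.H140.OreO Cfsg.Agent.H126.PwO Cfsg.Agent.H962.PP Cfsg.Agent.H141.SpinFacts Cfsg.Agent.H781.TC6
open Cfsg.Agent.H434.Corn (MaxTS)
open Cfsg.Agent.H140.TC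
open Cfsg.Agent.H588.TW (T52)

/-- the data for `T52` -/
structure Dat {F V : Type*} [Field F] [AddCommGroup V] [Module F V] (r : ℕ) (Q : QuadraticForm F V)
    (x₀ y₀ : V ≃ₗ[F] V) : Prop where
  hx : x₀ ∈ Om Q
  hy : y₀ ∈ Om Q
  xr : x₀ ^ r = 1
  yr : y₀ ^ (2 * r) = 1
  x1 : x₀ ≠ 1
  y2 : y₀ ^ 2 ≠ 1
  yn : y₀ ^ r ≠ 1
  yx : ∃ u ∈ Om Q, ∃ v ∈ Om Q, y₀ = (u * x₀ * u⁻¹) * (v * x₀ * v⁻¹)
  one : ∃ u ∈ Om Q, ∃ v ∈ Om Q, ∃ w ∈ Om Q, 1 = (u * x₀ * u⁻¹) * (v * x₀ * v⁻¹) * (w * x₀ * w⁻¹)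
  two : TwoOf Q x₀ y₀

seal _root_.Finset.sum _root_.dotProduct in
theorem t52_of_dat {ι : Type} [Fintype ι] [DecidableEq ι] {F : Type*} [Field F] {r : ℕ} (hr : r.Prime) (hr2 : r ≠ 2)
    (Q : QuadraticForm F (ι → F)) (hcen : Subgroup.center (Cfsg.Omega F ⇑Q) = ⊥) {x₀ y₀ : (ι → F) ≃ₗ[F] (ι → F)}
    (h : Dat r Q x₀ y₀) : T52 (Cfsg.POmega F ⇑Q) := by
  -- the embedding of `Om Q`
  obtain ⟨j, hj⟩ : ∃ j : Om Q →* Cfsg.POmega F ⇑Q, j = (QuotientGroup.mk' _).comp (omegaEquiv Q).symm.toMonoidHom :=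
    ⟨_, rfl⟩
  have hinj : ∀ a, j a = 1 → a = 1 := by
    intro a ha
    rw [hj] at ha
    have h1 : (omegaEquiv Q).symm a ∈ Subgroup.center (Cfsg.Omega F ⇑Q) := (QuotientGroup.eq_one_iff _).1 ha
    rw [hcen, Subgroup.mem_bot] at h1
    exact (omegaEquiv Q).symm.injective (h1.trans (map_one _).symm)
  have hsur : ∀ g : Cfsg.POmega F ⇑Q, ∃ a, j a = g := by
    intro g
    obtain ⟨g, rfl⟩ := QuotientGroup.mk_surjective g
    refine ⟨omegaEquiv Q g, ?_⟩
    rw [hj]
    show QuotientGroup.mk ((omegaEquiv Q).symm (omegaEquiv Q g)) = _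
    rw [MulEquiv.symm_apply_apply]
  have hscal : ∀ a : Om Q, (∃ c : F, ∀ v, (a : (ι → F) ≃ₗ[F] (ι → F)) v = c • v) → j a = 1 := by
    rintro a ⟨c, hc⟩
    rw [hj]
    show QuotientGroup.mk ((omegaEquiv Q).symm a) = _
    rw [QuotientGroup.eq_one_iff, Subgroup.mem_center_iff]
    intro k
    apply (omegaEquiv Q).injective
    simp only [map_mul, map_mul, MulEquiv.apply_symm_apply]
    apply Subtype.ext
    apply LinearEquiv.ext
    intro v
    show (omegaEquiv Q k : (ι → F) ≃ₗ[F] (ι → F)) ((a : (ι → F) ≃ₗ[F] (ι → F)) v) =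
      (a : (ι → F) ≃ₗ[F] (ι → F)) ((omegaEquiv Q k : (ι → F) ≃ₗ[F] (ι → F)) v)
    rw [hc, hc, map_smul]
  obtain ⟨X, hX⟩ : ∃ X : Om Q, (X : (ι → F) ≃ₗ[F] (ι → F)) = x₀ := ⟨⟨x₀, h.hx⟩, rfl⟩
  obtain ⟨Y, hY⟩ : ∃ Y : Om Q, (Y : (ι → F) ≃ₗ[F] (ι → F)) = y₀ := ⟨⟨y₀, h.hy⟩, rfl⟩
  have hX1 : X ≠ 1 := by
    intro e
    apply h.x1
    rw [← hX, e]; rfl
  have hXr : X ^ r = 1 := by
    apply Subtype.ext
    show (X : (ι → F) ≃ₗ[F] (ι → F)) ^ r = 1
    rw [hX, h.xr]
  have hY2 : Y ^ 2 ≠ 1 := by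
    intro e
    apply h.y2
    rw [← hY]
    exact congrArg Subtype.val e
  have hYr : Y ^ r ≠ 1 := by
    intro e
    apply h.yn
    rw [← hY]
    exact congrArg Subtype.val e
  have hY2r : Y ^ (2 * r) = 1 := by
    apply Subtype.ext
    show (Y : (ι → F) ≃ₗ[F] (ι → F)) ^ (2 * r) = 1
    rw [hY, h.yr]
  have hoX : orderOf (j X) = r := by
    have : Fact r.Prime := ⟨hr⟩
    apply orderOf_eq_prime
    · rw [← map_pow, hXr, map_one]
    · intro e
      exact hX1 (hinj _ e)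
  have hoY : orderOf (j Y) = 2 * r := by
    have h1 : orderOf (j Y) ∣ 2 * r := orderOf_dvd_of_pow_eq_one (by rw [← map_pow, hY2r, map_one])
    have h2 : ¬ orderOf (j Y) ∣ 2 := by
      intro e
      exact hY2 (hinj _ (by rw [map_pow]; exact orderOf_dvd_iff_pow_eq_one.1 e))
    have h3 : ¬ orderOf (j Y) ∣ r := by
      intro e
      exact hYr (hinj _ (by rw [map_pow]; exact orderOf_dvd_iff_pow_eq_one.1 e))
    obtain ⟨a, b, ha, hb, hab⟩ := (Nat.dvd_mul).1 h1
    rw [← hab] at h2 h3 ⊢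
    rcases (Nat.dvd_prime Nat.prime_two).1 ha with ha1 | ha1 <;> rcases (Nat.dvd_prime hr).1 hb with hb1 | hb1
    · exact absurd (by rw [ha1, hb1]; exact one_dvd _) h2
    · exact absurd (by rw [ha1, hb1, one_mul]) h3
    · exact absurd (by rw [ha1, hb1]) h2
    · rw [ha1, hb1]
  have hlift : ∀ u ∈ Om Q, ∃ U : Om Q, (U : (ι → F) ≃ₗ[F] (ι → F)) = u := fun u hu => ⟨⟨u, hu⟩, rfl⟩
  refine T52.of_pair (x := j X) (y := j Y) (by rw [hoX]; exact hr)
    (Or.inr ⟨2, r, Nat.prime_two, hr, hr2.symm, hoY⟩) (fun g hg => ?_) ?_ ?_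
  · obtain ⟨a, rfl⟩ := hsur g
    have hs : ∀ c : F, ∃ v, (a : (ι → F) ≃ₗ[F] (ι → F)) v ≠ c • v := by
      by_contra hs
      push Not at hs
      exact hg (hscal a hs)
    obtain ⟨u, hu, v, hv, e⟩ := h.two _ a.2 hs
    obtain ⟨U, rfl⟩ := hlift u hu
    obtain ⟨W, rfl⟩ := hlift v hv
    refine ⟨j U, j W, ?_⟩
    have e2 : a = (U * X * U⁻¹) * (W * Y * W⁻¹) := by
      apply Subtype.ext
      rw [e, ← hX, ← hY]
      rfl
    conv_lhs => rw [e2]
    simp only [map_mul, map_inv]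
  · obtain ⟨u, hu, v, hv, e⟩ := h.yx
    obtain ⟨U, rfl⟩ := hlift u hu
    obtain ⟨W, rfl⟩ := hlift v hv
    refine ⟨j U, j W, ?_⟩
    have e2 : Y = (U * X * U⁻¹) * (W * X * W⁻¹) := by
      apply Subtype.ext
      rw [hY, e, ← hX]
      rfl
    conv_lhs => rw [e2]
    simp only [map_mul, map_inv]
  · obtain ⟨u, hu, v, hv, w, hw, e⟩ := h.one
    obtain ⟨U, rfl⟩ := hlift u hu
    obtain ⟨W, rfl⟩ := hlift v hv
    obtain ⟨Z, rfl⟩ := hlift w hw
    refine ⟨j U, j W, j Z, ?_⟩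
    have e2 : (1 : Om Q) = (U * X * U⁻¹) * (W * X * W⁻¹) * (Z * X * Z⁻¹) := by
      apply Subtype.ext
      show (1 : (ι → F) ≃ₗ[F] (ι → F)) = _
      rw [e, ← hX]
      rfl
    have e3 := congrArg j e2
    simpa only [map_mul, map_inv, map_one] using e3

/-! ### the Siegel frame -/

section Frame

variable {F V : Type*} [Field F] [AddCommGroup V] [Module F V] {Q : QuadraticForm F V} [Finite F]
  [FiniteDimensional F V] {k : ℕ}

/-- two conjugates of `lev X₀ 1` for a nonscalar matrix of determinant one -/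
theorem lev_pr (hQ : Nondeg Q) (hk : 1 ≤ k) {e e' : Fin (k + 2) → V} (hf : Frame Q e e')
    {B : Matrix (Fin (k + 1)) (Fin (k + 1)) F} (hB : Cyc B) (hBd : B.det = 1) (hB1 : B.charpoly.eval 1 ≠ 0)
    {X₀ : GL (Fin (k + 2)) F} (hX₀ : (X₀ : Matrix (Fin (k + 2)) (Fin (k + 2)) F) = blk 1 B)
    {A : GL (Fin (k + 2)) F} (hA : (A : Matrix (Fin (k + 2)) (Fin (k + 2)) F).det = 1)
    (hns : ∀ a : F, (A : Matrix (Fin (k + 2)) (Fin (k + 2)) F) ≠ scalar (Fin (k + 2)) a) :
    ∃ u ∈ Om Q, ∃ v ∈ Om Q, (autE hf.toModel).symm (lev A 1) =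
      (u * (autE hf.toModel).symm (lev X₀ 1) * u⁻¹) * (v * (autE hf.toModel).symm (lev X₀ 1) * v⁻¹) := by
  have he : ∀ v, MQ (k + 2) (res Q e e') (hf.toModel v) = Q v := hf.MQ_toModel
  have hG : Good (MQ (k + 2) (res Q e e')) := good_model hQ (by omega) hf
  obtain ⟨P, R, hP, hR, h⟩ := exists_mul_conj_blk (A : Matrix (Fin (k + 2)) (Fin (k + 2)) F) hns 1 B hB
    (by rw [hBd]; exact one_ne_zero) one_ne_zero hB1 1 B hB (by rw [hBd]; exact one_ne_zero) one_ne_zero hB1
    (by rw [hA, hBd]; ring)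
  obtain ⟨P', hP'⟩ : ∃ P' : GL (Fin (k + 2)) F, (P' : Matrix _ _ F) = P :=
    exists_gl (by rw [hP]; exact one_ne_zero)
  obtain ⟨R', hR'⟩ : ∃ R' : GL (Fin (k + 2)) F, (R' : Matrix _ _ F) = R :=
    exists_gl (by rw [hR]; exact one_ne_zero)
  have hAe : A = (P' * X₀ * P'⁻¹) * (R' * X₀ * R'⁻¹) := by
    apply Units.ext
    simp only [Units.val_mul, Matrix.coe_units_inv]
    rw [hP', hR', hX₀, h]
  have hmem : ∀ S : GL (Fin (k + 2)) F, (S : Matrix (Fin (k + 2)) (Fin (k + 2)) F).det = 1 →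
      (autE hf.toModel).symm (lev S (1 : perp Q e e' ≃ₗ[F] perp Q e e')) ∈ Om Q := by
    intro S hS
    rw [← autE_mem_Om he, MulEquiv.apply_symm_apply]
    exact lev_det_one_mem hG hS
  have e3 : ∀ (Z W : GL (Fin (k + 2)) F),
      lev (Z * W * Z⁻¹) (1 : perp Q e e' ≃ₗ[F] perp Q e e') =
        lev Z (1 : perp Q e e' ≃ₗ[F] perp Q e e') * lev W (1 : perp Q e e' ≃ₗ[F] perp Q e e') *
          (lev Z (1 : perp Q e e' ≃ₗ[F] perp Q e e'))⁻¹ := by
    intro Z W
    rw [← lev_inv, ← lev_mul, ← lev_mul, one_mul, inv_one, mul_one]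
  refine ⟨_, hmem P' (by rw [hP', hP]), _, hmem R' (by rw [hR', hR]), ?_⟩
  conv_lhs => rw [hAe]
  have e4 : lev ((P' * X₀ * P'⁻¹) * (R' * X₀ * R'⁻¹)) (1 : perp Q e e' ≃ₗ[F] perp Q e e') =
      lev (P' * X₀ * P'⁻¹) 1 * lev (R' * X₀ * R'⁻¹) 1 := by
    rw [← lev_mul, one_mul]
  simp only [e4, e3, e3]
  simp only [map_mul, map_inv]

theorem eq_one_of_lev {U : Type*} [AddCommGroup U] [Module F U] {m : ℕ} {A : GL (Fin m) F} {h : U ≃ₗ[F] U}
    (e : lev A h = 1) : (A : Matrix (Fin m) (Fin m) F) = 1 := by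
  apply Matrix.ext_of_mulVec_single
  intro i
  have h1 := congrArg (fun T : M F U m ≃ₗ[F] M F U m => (T (Pi.single i 1, 0, 0)).1) e
  simp only [lev_apply] at h1
  rw [h1, Matrix.one_mulVec]
  rfl

theorem blk_inj {n : ℕ} {a b : F} {B D : Matrix (Fin n) (Fin n) F} (h : blk a B = blk b D) : a = b ∧ B = D := by
  constructor
  · have := congrFun (congrFun h 0) 0
    simpa using this
  · ext i j
    have := congrFun (congrFun h i.succ) j.succ
    simpa using this

theorem ne_one_of_eval {n : ℕ} {B : Matrix (Fin (n + 1)) (Fin (n + 1)) F} (h : B.charpoly.eval 1 ≠ 0) : B ≠ 1 := by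
  rintro rfl
  apply h
  rw [Matrix.charpoly_one]
  simp

/-- the data in a Siegel frame -/
theorem dat_of (h2 : (2 : F) ≠ 0) (hQ : Nondeg Q) (hk : 1 ≤ k) (hke : Even k) {e e' : Fin (k + 2) → V}
    (hf : Frame Q e e') {r : ℕ} (hr : Odd r) {B D : Matrix (Fin (k + 1)) (Fin (k + 1)) F} (hB : Cyc B)
    (hBd : B.det = 1) (hB1 : B.charpoly.eval 1 ≠ 0) (hBr : B ^ r = 1) (hDd : D.det = 1)
    (hD1 : D.charpoly.eval 1 ≠ 0) (hDr : D ^ r = 1)
    {X₀ Y₀ : GL (Fin (k + 2)) F} (hX₀ : (X₀ : Matrix (Fin (k + 2)) (Fin (k + 2)) F) = blk 1 B)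
    (hY₀ : (Y₀ : Matrix (Fin (k + 2)) (Fin (k + 2)) F) = blk (-1) (-D))
    (h : TwoOf Q ((autE hf.toModel).symm (lev X₀ 1)) ((autE hf.toModel).symm (lev Y₀ 1))) :
    Dat r Q ((autE hf.toModel).symm (lev X₀ 1)) ((autE hf.toModel).symm (lev Y₀ 1)) := by
  have he : ∀ v, MQ (k + 2) (res Q e e') (hf.toModel v) = Q v := hf.MQ_toModel
  have hG : Good (MQ (k + 2) (res Q e e')) := good_model hQ (by omega) hf
  have hmem : ∀ S : GL (Fin (k + 2)) F, (S : Matrix (Fin (k + 2)) (Fin (k + 2)) F).det = 1 →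
      (autE hf.toModel).symm (lev S (1 : perp Q e e' ≃ₗ[F] perp Q e e')) ∈ Om Q := by
    intro S hS
    rw [← autE_mem_Om he, MulEquiv.apply_symm_apply]
    exact lev_det_one_mem hG hS
  have hXd : (X₀ : Matrix (Fin (k + 2)) (Fin (k + 2)) F).det = 1 := by
    rw [hX₀, blk_det, hBd, one_mul]
  have hYd : (Y₀ : Matrix (Fin (k + 2)) (Fin (k + 2)) F).det = 1 := by
    rw [hY₀, blk_det, det_neg, Fintype.card_fin, hDd, mul_one, hke.add_one.neg_one_pow]
    ring
  have hpow : ∀ (S : GL (Fin (k + 2)) F) (s : ℕ), ((autE hf.toModel).symm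
      (lev S (1 : perp Q e e' ≃ₗ[F] perp Q e e'))) ^ s = (autE hf.toModel).symm (lev (S ^ s) 1) := by
    intro S s
    simp only [← map_pow, lev_pow, one_pow]
  have hone : ∀ S : GL (Fin (k + 2)) F, (autE hf.toModel).symm (lev S (1 : perp Q e e' ≃ₗ[F] perp Q e e')) = 1 →
      (S : Matrix (Fin (k + 2)) (Fin (k + 2)) F) = 1 := by
    intro S hS
    have h1 : lev S (1 : perp Q e e' ≃ₗ[F] perp Q e e') = 1 := by
      apply (autE hf.toModel).symm.injective
      rw [hS, map_one]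
    exact eq_one_of_lev h1
  have hone' : ∀ S : GL (Fin (k + 2)) F, (S : Matrix (Fin (k + 2)) (Fin (k + 2)) F) = 1 →
      (autE hf.toModel).symm (lev S (1 : perp Q e e' ≃ₗ[F] perp Q e e')) = 1 := by
    intro S hS
    have h1 : S = 1 := Units.ext hS
    rw [h1, lev_one, map_one]
  have hsc : ∀ (a b : F) (E : Matrix (Fin (k + 1)) (Fin (k + 1)) F), blk a E = scalar (Fin (k + 2)) b →
      E = scalar (Fin (k + 1)) a := by
    intro a b E hE
    have h1 : a = b := by
      have := congrFun (congrFun hE 0) 0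
      simpa using this
    ext i j
    have := congrFun (congrFun hE i.succ) j.succ
    rw [blk_succ_succ] at this
    rw [this, h1, scalar_apply, scalar_apply, diagonal_apply, diagonal_apply]
    simp [Fin.succ_inj]
  have hone0 : (1 : Matrix (Fin (k + 2)) (Fin (k + 2)) F) = blk 1 1 := blk_one.symm
  have yx := lev_pr hQ hk hf hB hBd hB1 hX₀ (A := Y₀) hYd (by
    intro a ha
    rw [hY₀] at ha
    have h1 := hsc _ _ _ ha
    apply ne_one_of_eval hD1
    have h3 : -D = -1 := by rw [h1, map_neg, map_one]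
    exact neg_injective h3)
  have xx := lev_pr hQ hk hf hB hBd hB1 hX₀ (A := X₀⁻¹) (by
    rw [Matrix.coe_units_inv, det_nonsing_inv, hXd]; simp only [_root_.Ring.inverse_one]) (by
    intro a ha
    have h1 : (X₀ : Matrix (Fin (k + 2)) (Fin (k + 2)) F) * scalar (Fin (k + 2)) a = 1 := by
      rw [← ha, ← Units.val_mul, mul_inv_cancel, Units.val_one]
    have h3 : a ≠ 0 := by
      rintro rfl
      rw [map_zero, mul_zero] at h1
      exact zero_ne_one h1
    have h4 : (X₀ : Matrix (Fin (k + 2)) (Fin (k + 2)) F) = scalar (Fin (k + 2)) a⁻¹ := by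
      calc (X₀ : Matrix (Fin (k + 2)) (Fin (k + 2)) F) = (X₀ : Matrix (Fin (k + 2)) (Fin (k + 2)) F) *
          scalar (Fin (k + 2)) a * scalar (Fin (k + 2)) a⁻¹ := by
            rw [mul_assoc, ← map_mul, mul_inv_cancel₀ h3, map_one, mul_one]
        _ = _ := by rw [h1, one_mul]
    rw [hX₀] at h4
    apply ne_one_of_eval hB1
    rw [hsc _ _ _ h4]; simp)
  refine ⟨hmem _ hXd, hmem _ hYd, ?_, ?_, ?_, ?_, ?_, yx, ?_, h⟩
  · rw [hpow]
    apply hone'
    rw [Units.val_pow_eq_pow_val, hX₀, blk_pow, one_pow, hBr, blk_one]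
  · rw [hpow]
    apply hone'
    rw [Units.val_pow_eq_pow_val, hY₀, blk_pow, pow_mul, pow_mul, neg_one_sq, one_pow, neg_sq, ← pow_mul, mul_comm,
      pow_mul, hDr, one_pow, blk_one]
  · intro e1
    have h1 := hone _ e1
    rw [hX₀, hone0] at h1
    exact ne_one_of_eval hB1 (blk_inj h1).2
  · rw [hpow]
    intro e1
    have h1 := hone _ e1
    rw [Units.val_pow_eq_pow_val, hY₀, blk_pow, hone0] at h1
    have h3 := (blk_inj h1).2
    rw [neg_sq] at h3
    apply ne_one_of_eval hD1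
    obtain ⟨s, hs⟩ := hr
    calc D = (D ^ 2) ^ s * D := by rw [h3, one_pow, one_mul]
      _ = D ^ r := by rw [← pow_mul, hs, ← pow_succ]
      _ = 1 := hDr
  · rw [hpow]
    intro e1
    have h1 := hone _ e1
    rw [Units.val_pow_eq_pow_val, hY₀, blk_pow, hone0] at h1
    have h3 := (blk_inj h1).1
    rw [hr.neg_one_pow] at h3
    apply h2
    linear_combination -h3
  · obtain ⟨u, hu, v, hv, e1⟩ := xx
    refine ⟨u, hu, v, hv, 1, one_mem _, ?_⟩
    simp only [← e1, one_mul, inv_one, mul_one, ← map_mul, ← lev_mul, inv_mul_cancel, one_mul, lev_one, map_one]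

end Frame

/-! ### the row -/

/-- the standard frame -/
theorem std_frame {F : Type*} [Field F] (m : ℕ) : Frame (oddForm m F)
    (fun i : Fin m => Pi.single (Sum.inr (Sum.inl i)) 1) (fun i : Fin m => Pi.single (Sum.inr (Sum.inr i)) 1) := by
  refine ⟨fun i => ?_, fun i => ?_, fun i j => ?_, fun i j => ?_, fun i j => ?_⟩
  · rw [coe_oddForm, quadFormOdd_apply]
    simp [Pi.single_apply]
  · rw [coe_oddForm, quadFormOdd_apply]
    simp [Pi.single_apply]
  · rw [polar_oddForm]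
    simp [Pi.single_apply]
  · rw [polar_oddForm]
    simp [Pi.single_apply]
  · rw [polar_oddForm]
    simp only [Pi.single_apply, eq_comm, _root_.ne_eq, _root_.reduceCtorEq, _root_.not_false_eq_true, _root_.Pi.single_eq_of_ne, _root_.MulZeroClass.mul_zero, _root_.Pi.single_apply, _root_.eq_comm, _root_.Sum.inr.injEq, _root_.Sum.inl.injEq, _root_.mul_ite, _root_.mul_one, _root_.add_zero, _root_.Finset.sum_ite_eq, _root_.Finset.mem_univ, ↓ _root_.reduceIte, _root_.zero_add]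

/-- the inverse has no eigenvalue one either -/
theorem eval_inv {F : Type*} [Field F] {m : ℕ} (B : GL (Fin m) F)
    (h : (B : Matrix (Fin m) (Fin m) F).charpoly.eval 1 ≠ 0) :
    ((B⁻¹ : GL (Fin m) F) : Matrix (Fin m) (Fin m) F).charpoly.eval 1 ≠ 0 := by
  rw [Matrix.eval_charpoly, map_one] at h ⊢
  have h1 : (1 : Matrix (Fin m) (Fin m) F) - ((B⁻¹ : GL (Fin m) F) : Matrix (Fin m) (Fin m) F) =
      ((B⁻¹ : GL (Fin m) F) : Matrix (Fin m) (Fin m) F) * -(1 - (B : Matrix (Fin m) (Fin m) F)) := by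
    rw [neg_sub, mul_sub, ← Units.val_mul, inv_mul_cancel, Units.val_one, mul_one]
  rw [h1, det_mul, det_neg]
  have h3 : ((B⁻¹ : GL (Fin m) F) : Matrix (Fin m) (Fin m) F).det ≠ 0 := by
    have h4 : ((B⁻¹ : GL (Fin m) F) : Matrix (Fin m) (Fin m) F).det * (B : Matrix (Fin m) (Fin m) F).det = 1 := by
      rw [← det_mul, ← Units.val_mul, inv_mul_cancel, Units.val_one, det_one]
    intro h5
    rw [h5, zero_mul] at h4
    exact zero_ne_one h4
  exact mul_ne_zero h3 (mul_ne_zero (pow_ne_zero _ (neg_ne_zero.2 one_ne_zero)) h)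

/-- **The row, `x₀ = lev (diag (1, B)) 1`, `y₀ = lev (diag (-1, -B⁻¹)) 1`.** -/
theorem t52_odd_inv {F : Type*} [Field F] [Fintype F] (hodd : Odd (Fintype.card F)) {k : ℕ} (hk : 2 ≤ k)
    (hke : Even k)
    (H : ∀ (r : ℕ) (f : F[X]) (B : GL (Fin (k + 1)) F) (X₀ Y₀ : GL (Fin (k + 2)) F) (e e' : Fin (k + 2) → _)
      (hf : Frame (oddForm (k + 2) F) e e'), r.Prime → r.Coprime 6 → GF (k + 1) r f →
      (B : Matrix (Fin (k + 1)) (Fin (k + 1)) F).charpoly = f →
      (B : Matrix (Fin (k + 1)) (Fin (k + 1)) F).det = 1 → B ^ r = 1 →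
      (X₀ : Matrix (Fin (k + 2)) (Fin (k + 2)) F) = blk 1 B →
      (Y₀ : Matrix (Fin (k + 2)) (Fin (k + 2)) F) =
        blk (-1) (-((B⁻¹ : GL (Fin (k + 1)) F) : Matrix (Fin (k + 1)) (Fin (k + 1)) F)) →
      TwoOf (oddForm (k + 2) F) ((autE hf.toModel).symm (lev X₀ 1)) ((autE hf.toModel).symm (lev Y₀ 1))) :
    T52 (Cfsg.POmega F (Cfsg.quadFormOdd (k + 2) F)) := by
  have h2 : (2 : F) ≠ 0 := by
    intro h0
    have : CharP F 2 := CharTwo.of_one_ne_zero_of_two_eq_zero one_ne_zero h0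
    have h3 := (FiniteField.even_card_iff_char_two (F := F)).1 (ringChar.eq F 2)
    rw [Nat.odd_iff] at hodd
    omega
  obtain ⟨r, f, hr6, hr, hgf⟩ := exists_gf_prime hodd (n := k + 1) (by omega) hke.add_one
  have hr2 : r ≠ 2 := by
    rintro rfl
    exact absurd hr6 (by decide)
  have hro : Odd r := hr.odd_of_ne_two hr2
  have hf0 : f.coeff 0 ≠ 0 := by
    intro h0
    have := hgf.c0
    rw [h0, mul_zero] at this
    exact zero_ne_one this
  obtain ⟨B, hB⟩ := exists_matrix f hgf.monic hf0 hgf.deg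
  have hBd : (B : Matrix (Fin (k + 1)) (Fin (k + 1)) F).det = 1 := det_of_charpoly hB hgf.c0
  have hBN : B ^ r = 1 := pow_of_charpoly hB hgf.dvd
  have hBN' : (B : Matrix (Fin (k + 1)) (Fin (k + 1)) F) ^ r = 1 := by
    rw [← Units.val_pow_eq_pow_val, hBN, Units.val_one]
  have hBc : Cyc (B : Matrix (Fin (k + 1)) (Fin (k + 1)) F) :=
    Cfsg.Agent.H140.TC.cyc_of_irr (by omega) (by rw [hB]; exact hgf.irr)
  have hev : (B : Matrix (Fin (k + 1)) (Fin (k + 1)) F).charpoly.eval 1 ≠ 0 := by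
    rw [hB]
    exact eval_ne_zero hgf.irr (by rw [hgf.deg]; omega) 1
  have hDd : ((B⁻¹ : GL (Fin (k + 1)) F) : Matrix (Fin (k + 1)) (Fin (k + 1)) F).det = 1 := by
    rw [Matrix.coe_units_inv, det_nonsing_inv, hBd]; simp only [_root_.Ring.inverse_one]
  have hDr : ((B⁻¹ : GL (Fin (k + 1)) F) : Matrix (Fin (k + 1)) (Fin (k + 1)) F) ^ r = 1 := by
    rw [← Units.val_pow_eq_pow_val, inv_pow, hBN, inv_one, Units.val_one]
  obtain ⟨X₀, hX₀⟩ : ∃ X₀ : GL (Fin (k + 2)) F, (X₀ : Matrix (Fin (k + 2)) (Fin (k + 2)) F) =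
      blk 1 (B : Matrix (Fin (k + 1)) (Fin (k + 1)) F) :=
    exists_gl (by rw [blk_det, hBd]; simp)
  obtain ⟨Y₀, hY₀⟩ : ∃ Y₀ : GL (Fin (k + 2)) F, (Y₀ : Matrix (Fin (k + 2)) (Fin (k + 2)) F) =
      blk (-1) (-((B⁻¹ : GL (Fin (k + 1)) F) : Matrix (Fin (k + 1)) (Fin (k + 1)) F)) :=
    exists_gl (by rw [blk_det, det_neg, hDd]; simp only [_root_.Fintype.card_fin, _root_.mul_one, _root_.neg_mul, _root_.one_mul, _root_.ne_eq, _root_.neg_eq_zero, _root_.Nat.add_eq_zero_iff, _root_.one_ne_zero, _root_.and_false, _root_.not_false_eq_true, _root_.pow_eq_zero_iff])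
  have hQ := nondeg_oddForm (k + 2) F h2
  have hcen : Subgroup.center (Cfsg.Omega F ⇑(oddForm (k + 2) F)) = ⊥ := by
    apply OrthCenter.center_omega_eq_bot_of_odd h2
    · exact ⟨fun x h => hQ x h, fun y h => hQ y fun x => by rw [polar_comm]; exact h x⟩
    · simp only [Fintype.card_sum, Fintype.card_unit, Fintype.card_fin]; omega
    · simp only [Fintype.card_sum, Fintype.card_unit, Fintype.card_fin]; exact ⟨k + 2, by omega⟩
    · refine ⟨_, ?_, (std_frame (k + 2)).sl 0⟩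
      intro h0
      have := congrFun h0 (Sum.inr (Sum.inl 0))
      simp at this
  have h5 := t52_of_dat hr hr2 (oddForm (k + 2) F) hcen
    (dat_of h2 hQ (by omega) hke (std_frame (k + 2)) hro hBc hBd hev hBN' hDd (eval_inv B hev) hDr hX₀ hY₀
      (H r f B X₀ Y₀ _ _ (std_frame (k + 2)) hr hr6 hgf hB hBd hBN hX₀ hY₀))
  rw [coe_oddForm] at h5
  exact h5

end Cfsg.Agent.H370.TW
end

-- part: H140/TW/R1Core
section
/-!
# The rank-one condition on isometries (helper140)

`g` an isometry with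
`b(g x, x) b(g y, y) = b(g x, y) b(g y, x)` for all singular orthogonal `x, y`:
then `g * g = 1` (odd characteristic, Witt index at least 3).
-/

set_option autoImplicit false

namespace Cfsg.Agent.H140.TW

open Module QuadraticMap Cfsg.Agent.LieClassical.OrthCore Cfsg.Agent.LieClassical.OrthTrans
open Cfsg.Agent.H434.Corn

variable {F V : Type*} [Field F] [AddCommGroup V] [Module F V] {Q : QuadraticForm F V}

/-- A nonzero singular vector orthogonal to two given vectors. -/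
theorem exists_e [FiniteDimensional F V] {W : Submodule F V} (hW : TS Q W)
    (h3 : 3 ≤ finrank F W) (a b : V) :
    ∃ e, e ≠ 0 ∧ Q e = 0 ∧ polar Q a e = 0 ∧ polar Q b e = 0 := by
  let f : W →ₗ[F] (Fin 2 → F) :=
    LinearMap.pi (fun i => (polarBilin Q (![a, b] i)).comp W.subtype)
  have hker : LinearMap.ker f ≠ ⊥ := by
    apply LinearMap.ker_ne_bot_of_finrank_lt
    rw [Module.finrank_fin_fun]
    omega
  obtain ⟨w, hw, hw0⟩ := Submodule.exists_mem_ne_zero_of_ne_bot hker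
  refine ⟨w, fun h => hw0 (Subtype.ext h), hW w w.2, ?_, ?_⟩
  · have := congrFun (LinearMap.mem_ker.1 hw) 0
    simpa [f] using this
  · have := congrFun (LinearMap.mem_ker.1 hw) 1
    simpa [f] using this

/-- A hyperbolic pair orthogonal to a given one. -/
theorem exists_ef [FiniteDimensional F V] (hQ : Nondeg Q)
    (hW : ∃ W : Submodule F V, TS Q W ∧ 3 ≤ finrank F W) {x x' : V} (h : Hyp Q x x') :
    ∃ e f, Hyp Q e f ∧ polar Q x e = 0 ∧ polar Q x f = 0 ∧ polar Q x' e = 0 ∧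
      polar Q x' f = 0 := by
  obtain ⟨W, hW, h3⟩ := hW
  obtain ⟨e, h0, hs, ha, hb⟩ := exists_e hW h3 x x'
  obtain ⟨f, hf, h1, h2⟩ := exists_hyp_perp hQ h hs h0 ha hb
  exact ⟨e, f, hf, ha, h1, hb, h2⟩

/-- A vector orthogonal to the singular vectors of `x^⊥` is a multiple of `x`. -/
theorem mult_of_perp [FiniteDimensional F V] (hQ : Nondeg Q)
    (hW : ∃ W : Submodule F V, TS Q W ∧ 3 ≤ finrank F W) {x s : V} (hx : Q x = 0) (h0 : x ≠ 0)
    (hs : ∀ y, Q y = 0 → polar Q x y = 0 → polar Q s y = 0) : ∃ c : F, s = c • x := by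
  by_contra hcon
  push Not at hcon
  obtain ⟨y, hy1, hy2⟩ := exists_sep hQ hcon
  obtain ⟨x', hx'⟩ := exists_hyp hQ hx h0
  obtain ⟨e, f, hef, h1, h2, -, -⟩ := exists_ef hQ hW hx'
  have := sing_induction_perp (Q := Q) (P := fun a => polar Q s a = 0) hef h1 h2 h1 h2
    (fun a c _ _ _ _ ha hc => by rw [polar_add_right, ha, hc, add_zero])
    (fun a ha hxa _ => hs a ha hxa) y hy1 hy1
  have h3 : polar Q s y = 0 := this
  rw [h3] at hy2
  exact zero_ne_one hy2

theorem five_le [FiniteDimensional F V] (hQ : Nondeg Q)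
    (hW : ∃ W : Submodule F V, TS Q W ∧ 3 ≤ finrank F W) : 5 ≤ finrank F V := by
  obtain ⟨W, hW, h3⟩ := hW
  obtain ⟨W', -, hdp⟩ := exists_partner hQ hW (X := ⊥) (fun x hx => by
    rw [(Submodule.mem_bot F).1 hx, QuadraticMap.map_zero]) (fun x hx _ => (Submodule.mem_bot F).1 hx)
  have h1 := hdp.finrank_V
  omega

/-- The rank-one condition. -/
def RO (Q : QuadraticForm F V) (g : V ≃ₗ[F] V) : Prop :=
  ∀ x y : V, Q x = 0 → Q y = 0 → polar Q x y = 0 →
    polar Q (g x) x * polar Q (g y) y = polar Q (g x) y * polar Q (g y) x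

theorem polar_symm_left {g : V ≃ₗ[F] V} (hg : g ∈ O Q) (x y : V) :
    polar Q (g.symm x) y = polar Q x (g y) := by
  rw [← polar_map hg, LinearEquiv.apply_symm_apply]

theorem step1 [FiniteDimensional F V] (h2 : (2 : F) ≠ 0) (hQ : Nondeg Q)
    (hd : 5 ≤ finrank F V) {g : V ≃ₗ[F] V} (hg : g ∈ O Q) (hR : RO Q g) {x : V} (hx : Q x = 0)
    (h0 : x ≠ 0) (hb : polar Q (g x) x = 0) : ∃ c : F, g x = c • x := by
  by_contra hcon
  push Not at hcon
  have hp : Q (g x) = 0 := by rw [mem_O.1 hg, hx]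
  have hxp : polar Q x (g x) = 0 := polar_zero_of_comm hb
  obtain ⟨w, hw1, hw2⟩ := exists_sep hQ hcon
  obtain ⟨z1, hz⟩ : ∃ z1, z1 = w + (-Q w) • g x := ⟨_, rfl⟩
  have hpz : Hyp Q (g x) z1 := by
    refine ⟨hp, ?_, ?_⟩
    · rw [hz, Q_add, QuadraticMap.map_smul, hp, polar_smul_right, polar_comm Q w, hw2]
      simp
    · rw [hz, polar_add_right, polar_smul_right, polar_self_of_sing hp, hw2]
      simp
  have hxz : polar Q x z1 = 0 := by
    rw [hz, polar_add_right, polar_smul_right, hxp, hw1]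
    simp
  obtain ⟨x', hxx, hpx, hzx⟩ := exists_hyp_perp hQ hpz hx h0 hb (polar_zero_of_comm hxz)
  obtain ⟨a, c, ⟨ha1, ha2, ha3, ha4⟩, ⟨hc1, hc2, hc3, hc4⟩, hac⟩ := exists_perp4 hQ hd hxx hpz
    hxp hxz (polar_zero_of_comm hpx) (polar_zero_of_comm hzx)
  obtain ⟨u, hu1, hu3, hu4, hu0⟩ : ∃ u, polar Q x u = 0 ∧ polar Q (g x) u = 0 ∧
      polar Q z1 u = 0 ∧ Q u ≠ 0 := by
    rcases exists_nonsing hac with h | h | h
    · exact ⟨a, ha1, ha3, ha4, h⟩
    · exact ⟨c, hc1, hc3, hc4, h⟩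
    · exact ⟨a + c, by rw [polar_add_right, ha1, hc1, add_zero],
        by rw [polar_add_right, ha3, hc3, add_zero],
        by rw [polar_add_right, ha4, hc4, add_zero], h⟩
  -- the basic relation
  have key : ∀ v, polar Q x v = 0 → polar Q (g x) v = 0 → polar Q z1 v = 0 →
      polar Q (g.symm x) z1 + polar Q (g.symm x) v - Q v * polar Q (g.symm x) (g x) = 0 := by
    intro v hv1 hv2 hv3
    have hs := sing_vec hpz.symm hv3 hv2
    have hxs : polar Q x (z1 + v - Q v • g x) = 0 := by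
      simp only [polar_sub_right, polar_add_right, polar_smul_right, hxz, hv1, hxp]
      simp
    have h1 := hR x _ hx hs hxs
    rw [hb, zero_mul] at h1
    have h3 : polar Q (g x) (z1 + v - Q v • g x) = 1 := by
      simp only [polar_sub_right, polar_add_right, polar_smul_right, hpz.pair, hv2,
        polar_self_of_sing hp]
      simp
    rw [h3, one_mul] at h1
    rw [polar_comm, ← polar_symm_left hg] at h1
    simp only [polar_sub_right, polar_add_right, polar_smul_right, smul_eq_mul] at h1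
    exact h1.symm
  have k0 : polar Q (g.symm x) z1 = 0 := by
    have := key 0 (polar_zero_right _ _) (polar_zero_right _ _) (polar_zero_right _ _)
    simpa using this
  have k1 := key u hu1 hu3 hu4
  have k2 := key (-u) (by rw [polar_neg_right, hu1, neg_zero])
    (by rw [polar_neg_right, hu3, neg_zero]) (by rw [polar_neg_right, hu4, neg_zero])
  rw [polar_neg_right, QuadraticMap.map_neg] at k2
  have k3 : polar Q (g.symm x) (g x) = 0 := by
    have h4 : 2 * (Q u * polar Q (g.symm x) (g x)) = 0 := by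
      linear_combination 2 * k0 - k1 - k2
    rcases mul_eq_zero.1 h4 with h | h
    · exact absurd h h2
    · rcases mul_eq_zero.1 h with h | h
      · exact absurd h hu0
      · exact h
  have k4 : ∀ v, polar Q x v = 0 → polar Q (g x) v = 0 → polar Q z1 v = 0 →
      polar Q (g.symm x) v = 0 := by
    intro v hv1 hv2 hv3
    have := key v hv1 hv2 hv3
    rw [k0, k3] at this
    simpa using this
  have k5 : polar Q (g.symm x) x = 0 := by
    rw [polar_symm_left hg]; exact hxp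
  -- `g⁻¹ x` is a multiple of `x`
  have hmul : ∃ c : F, g.symm x = c • x := by
    by_contra hcon'
    push Not at hcon'
    obtain ⟨y, hy1, hy2⟩ := exists_sep hQ hcon'
    have e1 : polar Q (g.symm x) (Cfsg.Agent.LieClassical.OrthTrans.proj Q (g x) z1 (Cfsg.Agent.LieClassical.OrthTrans.proj Q x x' y)) = 0 := by
      apply k4
      · rw [polar_proj_of_perp hb (polar_zero_of_comm hxz), polar_proj_left hxx]
      · exact polar_proj_left hpz _
      · exact polar_proj_right hpz _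
    simp only [Cfsg.Agent.LieClassical.OrthTrans.proj, polar_sub_right, polar_smul_right, k0, k3, k5, hy1, hy2] at e1
    simp at e1
  obtain ⟨c, hc⟩ := hmul
  have e2 : x = c • g x := by
    have := congrArg g hc
    rwa [LinearEquiv.apply_symm_apply, map_smul] at this
  have hc0 : c ≠ 0 := by
    rintro rfl
    exact h0 (by rw [e2, zero_smul])
  apply hcon c⁻¹
  nth_rewrite 2 [e2]
  rw [smul_smul, inv_mul_cancel₀ hc0, one_smul]

theorem step2 [FiniteDimensional F V] (h2 : (2 : F) ≠ 0) (hQ : Nondeg Q)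
    (hd : 5 ≤ finrank F V) {g : V ≃ₗ[F] V} (hg : g ∈ O Q) (hR : RO Q g) {x y : V} (hx : Q x = 0)
    (hy : Q y = 0) (hxy : polar Q x y = 0) : polar Q (g x) y = polar Q (g y) x := by
  by_cases h0 : x = 0
  · rw [h0, map_zero, polar_zero_left, polar_zero_right]
  by_cases hb : polar Q (g x) x = 0
  · obtain ⟨c, hc⟩ := step1 h2 hQ hd hg hR hx h0 hb
    have hc0 : c ≠ 0 := by
      rintro rfl
      rw [zero_smul] at hc
      exact h0 (g.map_eq_zero_iff.1 hc)
    have h3 : polar Q (g x) y = 0 := by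
      rw [hc, polar_smul_left, hxy, smul_zero]
    have h4 : polar Q (g y) (g x) = 0 := by
      rw [polar_map hg, polar_comm]; exact hxy
    rw [hc, polar_smul_right, smul_eq_mul] at h4
    rcases mul_eq_zero.1 h4 with h | h
    · exact absurd h hc0
    · rw [h3, h]
  · obtain ⟨t, ht⟩ : ∃ t, t = polar Q (g x) y / polar Q (g x) x := ⟨_, rfl⟩
    have ht' : t * polar Q (g x) x = polar Q (g x) y := by
      rw [ht, div_mul_cancel₀ _ hb]
    have hR' := hR x y hx hy hxy
    have hv : Q (y - t • x) = 0 := by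
      rw [sub_eq_add_neg, ← neg_smul, Q_add, QuadraticMap.map_smul, hx, hy, polar_smul_right,
        polar_comm Q y x, hxy]
      simp
    have hvx : polar Q (y - t • x) x = 0 := by
      rw [polar_sub_left, polar_smul_left, polar_self_of_sing hx, polar_comm Q y x, hxy]
      simp
    have hvv : polar Q (g (y - t • x)) (y - t • x) = 0 := by
      simp only [map_sub, map_smul, polar_sub_left, polar_sub_right, polar_smul_left,
        polar_smul_right, smul_eq_mul]
      apply mul_left_cancel₀ hb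
      linear_combination hR' + (-(polar Q (g y) x) + t * polar Q (g x) x ) * ht'
    have hvx' : polar Q (g (y - t • x)) x = 0 := by
      by_cases hv0 : y - t • x = 0
      · rw [hv0, map_zero, polar_zero_left]
      · obtain ⟨c, hc⟩ := step1 h2 hQ hd hg hR hv hv0 hvv
        rw [hc, polar_smul_left, hvx, smul_zero]
    rw [map_sub, map_smul, polar_sub_left, polar_smul_left, smul_eq_mul] at hvx'
    rw [← ht']
    linear_combination -hvx'

theorem step3 [FiniteDimensional F V] (h2 : (2 : F) ≠ 0) (hQ : Nondeg Q)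
    (hW : ∃ W : Submodule F V, TS Q W ∧ 3 ≤ finrank F W)
    {g : V ≃ₗ[F] V} (hg : g ∈ O Q) (hR : RO Q g) {x : V} (hx : Q x = 0) :
    ∃ c : F, g x - g.symm x = c • x := by
  by_cases h0 : x = 0
  · exact ⟨0, by rw [h0]; simp⟩
  have hd := five_le hQ hW
  refine mult_of_perp hQ hW hx h0 (fun y hy hxy => ?_)
  rw [polar_sub_left, polar_symm_left hg, step2 h2 hQ hd hg hR hx hy hxy, polar_comm Q x (g y),
    sub_self]

theorem step4 [FiniteDimensional F V] (h2 : (2 : F) ≠ 0) (hQ : Nondeg Q)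
    (hW : ∃ W : Submodule F V, TS Q W ∧ 3 ≤ finrank F W)
    {g : V ≃ₗ[F] V} (hg : g ∈ O Q) (hR : RO Q g) {x : V} (hx : Q x = 0) :
    g x - g.symm x = 0 := by
  by_cases h0 : x = 0
  · rw [h0]; simp
  obtain ⟨y, hxy⟩ := exists_hyp hQ hx h0
  obtain ⟨e, f, hef, h11, h12, h21, h22⟩ := exists_ef hQ hW hxy
  -- skewness
  have skew : ∀ a b : V, polar Q (g a - g.symm a) b = - polar Q a (g b - g.symm b) := by
    intro a b
    have h5 : polar Q (g a) b = polar Q a (g.symm b) := by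
      rw [polar_comm Q a, polar_symm_left hg, polar_comm]
    rw [polar_sub_left, polar_sub_right, polar_symm_left hg, h5]
    ring
  have opp : ∀ (a b : V) (c d : F), g a - g.symm a = c • a → g b - g.symm b = d • b →
      polar Q a b ≠ 0 → c = -d := by
    intro a b c d hc hd hab
    have := skew a b
    rw [hc, hd, polar_smul_left, polar_smul_right, smul_eq_mul, smul_eq_mul] at this
    apply mul_right_cancel₀ hab
    linear_combination this
  obtain ⟨c, hc⟩ := step3 h2 hQ hW hg hR hx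
  obtain ⟨d, hd⟩ := step3 h2 hQ hW hg hR hxy.right
  have hu : Q (e + f) = 1 := by
    rw [Q_add, hef.left, hef.right, hef.pair]; ring
  have hxu : polar Q x (e + f) = 0 := by rw [polar_add_right, h11, h12, add_zero]
  have hyu : polar Q y (e + f) = 0 := by rw [polar_add_right, h21, h22, add_zero]
  have hz := sing_vec hxy hxu hyu
  obtain ⟨l, hl⟩ := step3 h2 hQ hW hg hR hz
  have o1 := opp _ _ _ _ hc hd (by rw [hxy.pair]; exact one_ne_zero)
  have o2 := opp _ _ _ _ hc hl (by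
    simp only [polar_sub_right, polar_add_right, polar_smul_right, hxy.polar_left, h11, h12,
      hxy.pair, hu]
    simp)
  have o3 := opp _ _ _ _ hd hl (by
    simp only [polar_sub_right, polar_add_right, polar_smul_right, hxy.pair', h21, h22,
      hxy.polar_right, hu]
    simp)
  have hc0 : c = 0 := by
    have : 2 * c = 0 := by linear_combination o1 + o2 - o3
    rcases mul_eq_zero.1 this with h | h
    · exact absurd h h2
    · exact h
  rw [hc, hc0, zero_smul]

/-- An isometry with the rank-one condition is an involution. -/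
theorem RO_sq [FiniteDimensional F V] (h2 : (2 : F) ≠ 0) (hQ : Nondeg Q)
    (hW : ∃ W : Submodule F V, TS Q W ∧ 3 ≤ finrank F W)
    {g : V ≃ₗ[F] V} (hg : g ∈ O Q) (hR : RO Q g) : ∀ v, g (g v) = v := by
  intro v
  obtain ⟨W, hTS, h3⟩ := hW
  obtain ⟨e, he0, he, -, -⟩ := exists_e hTS h3 (0 : V) 0
  obtain ⟨f, hef⟩ := exists_hyp hQ he he0
  have h := sing_induction hef (P := fun a => g a - g.symm a = 0)
    (fun a c ha hc => by
      have ha' : g a - g.symm a = 0 := ha
      have hc' : g c - g.symm c = 0 := hc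
      show g (a + c) - g.symm (a + c) = 0
      rw [map_add, map_add, sub_eq_zero.1 ha', sub_eq_zero.1 hc', sub_self])
    (fun a ha => step4 h2 hQ ⟨W, hTS, h3⟩ hg hR ha) v
  have h' : g v = g.symm v := sub_eq_zero.1 h
  rw [h', LinearEquiv.apply_symm_apply]

end Cfsg.Agent.H140.TW
end

-- part: H781/TW/Def
section
/-!
# S2452, `Ω_(2n+1)(q)`, `q` odd, `n` even (helper781): interface

`R1 Q g` : the form `β(x, y) = polar Q (g x) y` has rank at most `1` on every totally singular plane.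
-/

set_option autoImplicit false

namespace Cfsg.Agent.H781.TW

open QuadraticMap Cfsg.Agent.LieClassical.OrthCore Cfsg.Agent.LieClassical.OrthTrans

/-- rank at most `1` -/
def R1 {F V : Type*} [Field F] [AddCommGroup V] [Module F V] (Q : QuadraticForm F V) (g : V ≃ₗ[F] V) : Prop :=
  ∀ x y : V, Q x = 0 → Q y = 0 → polar Q x y = 0 →
    polar Q (g x) x * polar Q (g y) y = polar Q (g x) y * polar Q (g y) x

end Cfsg.Agent.H781.TW
end

-- part: H140/TW/R1
section
/-!
# Box D1a of `Ω_(2n+1)(q)`, `q` odd, `n` even (helper140)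
-/

set_option autoImplicit false

namespace Cfsg.Agent.H140.TW

open Module QuadraticMap Cfsg.Agent.LieClassical.OrthCore Cfsg.Agent.LieClassical.OrthTrans
open Cfsg.Agent.H434.Corn Cfsg.Agent.H781.TW

variable {F V : Type*} [Field F] [AddCommGroup V] [Module F V] {Q : QuadraticForm F V}

theorem R1_sq [FiniteDimensional F V] (h2 : (2 : F) ≠ 0) (hQ : Nondeg Q)
    (hW : ∃ W, MaxTS Q W ∧ 3 ≤ finrank F W) {g : V ≃ₗ[F] V} (hg : g ∈ O Q) (hR : R1 Q g) :
    ∀ v, g (g v) = v := by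
  obtain ⟨W, hW, h3⟩ := hW
  exact RO_sq h2 hQ ⟨W, hW.ts, h3⟩ hg hR

end Cfsg.Agent.H140.TW
end

-- part: H140/TW/GoodFrame
section
/-!
# Box C of `Ω_(2n+1)(q)`, `q` odd, `n` even: good frames (helper140)

From a maximal totally singular `W` with `g w ∈ W` for some `w ≠ 0` in `W` and a plane of `W` without nonzero vectors
mapped to `W`: a maximal frame with Schur complement `1`, corner `A` of determinant `r * r`, and a vector `u = ∑ c i w i`
of `W` with `A c` no multiple of `c` and `g u` without middle component.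
-/

set_option autoImplicit false
set_option linter.unusedSectionVars false
set_option linter.unusedSimpArgs false

namespace Cfsg.Agent.H140.TW

open Module QuadraticMap Matrix Cfsg.Agent.LieClassical.OrthCore Cfsg.Agent.LieClassical.OrthTrans
  Cfsg.Agent.LieClassical.OrthFinite
open Cfsg.Agent.H140.OreO Cfsg.Agent.H141.SpinFacts
open Cfsg.Agent.H434.Corn (MaxTS exists_functional exists_moved exists_adapted mids exists_partner_of_datum
  isSquare_corner mem_E_O Partner sum_repr_coe Datum)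

variable {F V : Type*} [Field F] [AddCommGroup V] [Module F V] {Q : QuadraticForm F V}

/-- The frame of a partner, with its vectors. -/
theorem exists_frame' [FiniteDimensional F V] {g : V ≃ₗ[F] V} {W W' : Submodule F V} {A : W →ₗ[F] W}
    (P : Partner Q g W W' A) {m : ℕ} (hm : finrank F W = m) :
    ∃ (w w' : Fin m → V) (b : Basis (Fin m) F W), (∀ i, w i = b i) ∧
      (∀ v, (∀ i, polar Q (w i) v = 0 ∧ polar Q (w' i) v = 0) → v ∈ mids Q W W') ∧
      Frame Q w w' ∧ SchurOne Q g w w' ∧ corner Q g w w' = LinearMap.toMatrix b b A := by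
  classical
  subst hm
  let b := Module.finBasis F W
  let b' : Basis (Fin (finrank F W)) F W' := b.dualBasis.map P.dp.symm.equiv.symm
  have hb' : ∀ (i : Fin (finrank F W)) (w : W), polar Q (b' i : V) (w : V) = b.coord i w := by
    intro i w
    have h1 : b' i = P.dp.symm.equiv.symm (b.dualBasis i) := Basis.map_apply _ _ _
    rw [h1, P.dp.symm.equiv_symm, Basis.coe_dualBasis]
  have hbb : ∀ i (w : W), polar Q (w : V) (b' i : V) = b.coord i w := by
    intro i w
    rw [polar_comm, hb']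
  have hmid : ∀ v, (∀ i, polar Q (b i : V) v = 0 ∧ polar Q (b' i : V) v = 0) → v ∈ mids Q W W' := by
    intro v hv
    refine ⟨?_, ?_⟩
    · intro w hw
      have h2 : w = ∑ i, b.repr ⟨w, hw⟩ i • (b i : V) := (sum_repr_coe b hw).symm
      rw [h2, ← polarBilin_apply_apply, map_sum, LinearMap.sum_apply]
      refine Finset.sum_eq_zero (fun i _ => ?_)
      rw [map_smul, LinearMap.smul_apply, polarBilin_apply_apply, (hv i).1, smul_zero]
    · intro w hw
      have h2 : w = ∑ i, b'.repr ⟨w, hw⟩ i • (b' i : V) := (sum_repr_coe b' hw).symm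
      rw [h2, ← polarBilin_apply_apply, map_sum, LinearMap.sum_apply]
      refine Finset.sum_eq_zero (fun i _ => ?_)
      rw [map_smul, LinearMap.smul_apply, polarBilin_apply_apply, (hv i).2, smul_zero]
  refine ⟨fun i => b i, fun i => b' i, b, fun i => rfl, hmid, ?_, ?_, ?_⟩
  · refine ⟨fun i => P.dp.ts _ (b i).2, fun i => P.dp.ts' _ (b' i).2, fun i j => P.dp.ts.pz (b i).2 (b j).2,
      fun i j => P.dp.ts'.pz (b' i).2 (b' j).2, fun i j => ?_⟩
    rw [hbb, Basis.coord_apply, Basis.repr_self, Finsupp.single_apply]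
  · intro v hv
    obtain ⟨w, hw, hgw⟩ := P.mid v (hmid v hv)
    refine ⟨b.repr ⟨w, hw⟩, b'.repr ⟨g (v + w) - v, hgw⟩, ?_⟩
    rw [sum_repr_coe b hw, sum_repr_coe b' hgw]
    abel
  · ext i j
    rw [corner_apply, P.corner (b j) _ (b' i).2, hbb, LinearMap.toMatrix_apply]
    rfl

/-- no middle component -/
theorem mid_zero [FiniteDimensional F V] {g : V ≃ₗ[F] V} {W W' : Submodule F V} {A : W →ₗ[F] W}
    (hW : MaxTS Q W) (hg : g ∈ O Q) (P : Partner Q g W W' A) {u : W}
    (hq : polar Q (A u : V) (g u) = 0) {v : V} (hv : v ∈ mids Q W W') : polar Q (g u) v = 0 := by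
  obtain ⟨n, hn⟩ : ∃ n, n = P.dp.mid (g u) := ⟨_, rfl⟩
  obtain ⟨a, ha⟩ : ∃ a : W, a = P.dp.pr (g u) := ⟨_, rfl⟩
  obtain ⟨b, hb⟩ : ∃ b : W', b = P.dp.symm.pr (g u) := ⟨_, rfl⟩
  have hnm : n ∈ mids Q W W' := by rw [hn]; exact P.dp.mid_mem _
  have hdec : g u = n + a + b := by rw [hn, ha, hb]; exact P.dp.decomp (g u)
  have hQu : Q (g u) = 0 := by rw [mem_O.1 hg]; exact hW.ts _ u.2
  -- `polar a b = 0`
  have h1 : polar Q (a : V) (b : V) = polar Q (A u : V) (b : V) := by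
    rw [ha, P.dp.polar_pr _ b.2, P.corner u _ b.2]
  have h2 : polar Q (A u : V) (b : V) = 0 := by
    rw [hdec, polar_add_right, polar_add_right, hnm.1 _ (A u).2, P.dp.ts.pz (A u).2 a.2] at hq
    simpa using hq
  have hnz : n = 0 := by
    apply P.dp.anis hW hnm
    rw [hdec, Q_add, Q_add, P.dp.ts _ a.2, P.dp.ts' _ b.2, polar_add_left, h1, h2,
      polar_comm Q n, polar_comm Q n, hnm.1 _ a.2, hnm.2 _ b.2] at hQu
    simpa only [_root_.add_zero] using hQu
  rw [hdec, hnz, zero_add, polar_add_left, hv.1 _ a.2, hv.2 _ b.2, add_zero]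

theorem good_adjust {U : Type*} [AddCommGroup U] [Module F U] [FiniteDimensional F U] {A : U →ₗ[F] U}
    {H : Submodule F U} (hH0 : H ≠ ⊥) {u : U} (hu : u ∉ H) {d : F} (hd : d ≠ 0)
    (hdet : LinearMap.det A = d) :
    ∃ φ : U →ₗ[F] U, (∀ h ∈ H, φ h = 0) ∧ (∀ u, φ u ∈ H.map A) ∧ LinearMap.det (A + φ) = d ∧
      ∀ c : F, (A + φ) u ≠ c • u := by
  classical
  obtain ⟨r₀, hr₀H, hr₀⟩ := Submodule.exists_mem_ne_zero_of_ne_bot hH0
  by_cases hA : ∀ c : F, A u ≠ c • u
  · exact ⟨0, fun _ _ => rfl, fun u => Submodule.zero_mem _, by rw [add_zero, hdet],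
      by rwa [add_zero]⟩
  · push Not at hA
    obtain ⟨c, hc⟩ := hA
    obtain ⟨ψ, hψ, hψ1⟩ := exists_functional hu
    have e : A + ψ.smulRight (A r₀) = A ∘ₗ LinearMap.transvection ψ r₀ := by
      ext u
      simp [LinearMap.transvection.apply]
    have hinj : Function.Injective A := by
      have h1 : IsUnit A := (LinearMap.isUnit_iff_isUnit_det A).2 (by rw [hdet]; exact hd.isUnit)
      exact ((Module.End.isUnit_iff A).1 h1).1
    have hu0 : u ≠ 0 := by
      rintro rfl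
      exact hu H.zero_mem
    have hc0 : c ≠ 0 := by
      rintro rfl
      rw [zero_smul] at hc
      exact hu0 (hinj (by rw [hc, map_zero]))
    refine ⟨ψ.smulRight (A r₀), fun h hh => ?_, fun u => ?_, ?_, fun d hd => ?_⟩
    · rw [LinearMap.smulRight_apply, hψ h hh, zero_smul]
    · rw [LinearMap.smulRight_apply]
      exact Submodule.smul_mem _ _ ⟨r₀, hr₀H, rfl⟩
    · rw [e, LinearMap.det_comp, LinearMap.transvection.det, hdet, hψ r₀ hr₀H]
      ring
    · rw [LinearMap.add_apply, LinearMap.smulRight_apply, hψ1, one_smul, hc] at hd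
      have h1 : A r₀ = (d - c) • u := by
        rw [sub_smul, ← hd]; abel
      have h2 : A (c • r₀) = A ((d - c) • u) := by
        rw [map_smul, map_smul, h1, hc, smul_comm]
      have h3 := hinj h2
      have h4 : (d - c) • u ∈ H := by
        rw [← h3]; exact H.smul_mem _ hr₀H
      have h5 : d - c = 0 := by
        by_contra hne
        exact hu ((H.smul_mem_iff hne).1 h4)
      rw [h5, zero_smul] at h3
      exact hr₀ ((smul_eq_zero.1 h3).resolve_left hc0)

/-- **Good frames.** -/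
theorem goodFrame [Finite F] [FiniteDimensional F V] (hQ : Nondeg Q) {g : V ≃ₗ[F] V}
    (hg : g ∈ ⁅O Q, O Q⁆) {m : ℕ} (hV : finrank F V = 2 * m + 1) {W : Submodule F V}
    (hW : MaxTS Q W) (hWm : finrank F W = m) (h1 : ∃ w ∈ W, w ≠ 0 ∧ g w ∈ W)
    (h2 : ∃ x ∈ W, ∃ y ∈ W, ∀ a b : F, g (a • x + b • y) ∈ W → a = 0 ∧ b = 0) {r : F}
    (hr : r ≠ 0) :
    ∃ w w' : Fin m → V, Frame Q w w' ∧ SchurOne Q g w w' ∧ (corner Q g w w').det = r * r ∧
      ∃ c : Fin m → F, (∀ d : F, corner Q g w w' *ᵥ c ≠ d • c) ∧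
        ∀ v, (∀ i, polar Q (w i) v = 0 ∧ polar Q (w' i) v = 0) →
          polar Q (g (∑ i, c i • w i)) v = 0 := by
  classical
  have hgO : g ∈ O Q := mem_E_O hg
  obtain ⟨w₁, hw₁, hw₁0, hw₁'⟩ := h1
  obtain ⟨x, hx, y, hy, hxy⟩ := h2
  obtain ⟨W', H, W₁, h, hHW, hmem⟩ := exists_adapted hQ hgO hW
  have heven := h.even_finrank hQ hHW hg
  have hx' : g x ∉ W := by
    intro hcon
    have := hxy 1 0 (by simpa using hcon)
    exact one_ne_zero this.1
  -- `W₁ ≠ 0`
  have hW₁ne : ∃ w ∈ W₁, w ≠ 0 := by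
    obtain ⟨a, ha, b, hb, hab⟩ := h.split hx
    refine ⟨b, hb, ?_⟩
    rintro rfl
    rw [add_zero] at hab
    rw [hab] at hx'
    exact hx' (h.gH a ha)
  have hd : 1 ≤ finrank F W₁ := by
    obtain ⟨w, hw, hw0⟩ := hW₁ne
    rw [Nat.one_le_iff_ne_zero, Ne, Submodule.finrank_eq_zero]
    intro h0
    rw [h0, Submodule.mem_bot] at hw
    exact hw0 hw
  -- the middle space has dimension `1`
  have hM1 : finrank F (mids Q W W') = 1 := by
    have h3 := h.dp.finrank_V
    omega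
  have he : finrank F (LinearMap.range h.dlt) ≤ 1 := by
    have h3 := LinearMap.finrank_range_le h.dlt
    omega
  obtain ⟨l, hl⟩ : ∃ l, finrank F W₁ = finrank F (LinearMap.range h.dlt) + (l + l) := by
    rw [Nat.even_iff] at heven
    refine ⟨(finrank F W₁ - finrank F (LinearMap.range h.dlt)) / 2, ?_⟩
    omega
  obtain ⟨A, t, D, hA⟩ := h.exists_datum hl
  obtain ⟨W'', P⟩ := exists_partner_of_datum h D
  obtain ⟨w, w', b, hf, hS, hc⟩ := P.exists_frame hWm
  have hsq := isSquare_corner hQ hf hg hS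
  rw [hc, LinearMap.det_toMatrix] at hsq
  obtain ⟨s, hs'⟩ := hsq
  have hdetA : LinearMap.det A ≠ 0 := by
    have h1 : IsUnit (LinearMap.det A) := by
      rw [← LinearMap.isUnit_iff_isUnit_det, Module.End.isUnit_iff]
      exact ⟨hA, LinearMap.injective_iff_surjective.1 hA⟩
    exact h1.ne_zero
  have hs0 : s ≠ 0 := by
    rintro rfl
    rw [mul_zero] at hs'
    exact hdetA hs'
  obtain ⟨A', t', D', hA'⟩ := h.exists_scale hW₁ne D (mul_ne_zero hr (inv_ne_zero hs0))
  have hdet' : LinearMap.det A' = r * r := by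
    rw [hA', hs']
    field_simp
  -- the vector `u`
  let fp : (Fin 2 → F) →ₗ[F] W := LinearMap.codRestrict W
    ((LinearMap.proj 0).smulRight x + (LinearMap.proj 1).smulRight y)
    (fun c => W.add_mem (W.smul_mem _ hx) (W.smul_mem _ hy))
  have hfp : ∀ c, ((fp c : W) : V) = c 0 • x + c 1 • y := fun c => rfl
  let ft : (Fin 2 → F) →ₗ[F] mids Q W W' := LinearMap.codRestrict _ (t' ∘ₗ fp)
    (fun c => D'.tM _)
  have hker : LinearMap.ker ft ≠ ⊥ := by
    apply LinearMap.ker_ne_bot_of_finrank_lt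
    rw [Module.finrank_fin_fun, hM1]
    omega
  obtain ⟨c, hck, hc0⟩ := Submodule.exists_mem_ne_zero_of_ne_bot hker
  have htu : t' (fp c) = 0 := congrArg Subtype.val (LinearMap.mem_ker.1 hck)
  have hgu : g (fp c) ∉ W := by
    intro hcon
    rw [hfp] at hcon
    obtain ⟨h3, h4⟩ := hxy _ _ hcon
    apply hc0
    ext i
    fin_cases i
    · exact h3
    · exact h4
  have huH : fp c ∉ H.comap W.subtype := fun hcon => hgu (h.gH _ hcon)
  -- adjust
  have hH0 : H.comap W.subtype ≠ ⊥ := by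
    intro h0
    have h1 : (⟨w₁, hw₁⟩ : W) ∈ H.comap W.subtype := h.mem_H hw₁ hw₁'
    rw [h0, Submodule.mem_bot] at h1
    exact hw₁0 (congrArg Subtype.val h1)
  obtain ⟨φ, hφ1, hφ2, hφ3, hφ4⟩ := good_adjust hH0 huH (mul_ne_zero hr hr) hdet'
  have D'' := D'.add h.dp.ts hgO (φ := φ) (fun w hw => hφ1 w (h.mem_H w.2 hw)) (fun w => by
    obtain ⟨x, hx, hxe⟩ := hφ2 w
    rw [← hxe, D'.fixA x (h.gH _ hx)]
    exact ⟨x, x.2, rfl⟩)
  obtain ⟨W''', P'⟩ := exists_partner_of_datum h D''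
  obtain ⟨w, w', b, hwb, hmid, hf, hS, hc⟩ := exists_frame' P' hWm
  refine ⟨w, w', hf, hS, ?_, b.repr (fp c), fun d hdd => hφ4 d ?_, fun v hv => ?_⟩
  · rw [hc, LinearMap.det_toMatrix, hφ3]
  · rw [hc, LinearMap.toMatrix_mulVec_repr] at hdd
    apply b.repr.injective
    ext i
    rw [map_smul, Finsupp.smul_apply]
    exact congrFun hdd i
  · have h3 : ∑ i, b.repr (fp c) i • w i = (fp c : V) := by
      simp only [hwb]
      exact sum_repr_coe b (fp c).2
    rw [h3]
    refine mid_zero hW hgO P' ?_ (hmid v hv)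
    rw [D''.quad, htu, QuadraticMap.map_zero, neg_zero]

end Cfsg.Agent.H140.TW
end

-- part: H144/TW/Refl
section
/-!
# S2452, orthogonal groups of odd dimension: involutions with `beta` of rank one are reflections up to sign

`R1_refl` (box D1b of helper781).
-/

set_option autoImplicit false

namespace Cfsg.Agent.H144.TW

open QuadraticMap Module Cfsg.Agent.LieClassical.OrthCore

variable {F V : Type*} [Field F] [AddCommGroup V] [Module F V] {Q : QuadraticForm F V}

/-- a nondegenerate subspace -/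
def Nd (Q : QuadraticForm F V) (W : Submodule F V) : Prop := ∀ x ∈ W, (∀ y ∈ W, polar Q x y = 0) → x = 0

theorem exists_ne {W : Submodule F V} (hW : Nd Q W) (h0 : W ≠ ⊥) : ∃ v ∈ W, Q v ≠ 0 := by
  by_contra hcon
  push Not at hcon
  apply h0
  rw [eq_bot_iff]
  intro x hx
  apply hW x hx
  intro y hy
  rw [polar, hcon _ (W.add_mem hx hy), hcon x hx, hcon y hy, sub_zero, sub_zero]

/-- the orthogonal complement in `W` of a nonsingular vector -/
theorem exists_perp [FiniteDimensional F V] (h2 : (2 : F) ≠ 0) {W : Submodule F V} (hW : Nd Q W) {v : V} (hv : v ∈ W)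
    (hv0 : Q v ≠ 0) : ∃ W' : Submodule F V, W' ≤ W ∧ Nd Q W' ∧ (∀ x ∈ W', polar Q v x = 0) ∧
      finrank F W ≤ finrank F W' + 1 := by
  have hvv : polar Q v v ≠ 0 := by
    rw [polar_self']
    exact mul_ne_zero h2 hv0
  have key : ∀ x ∈ W, ∃ c : F, x - c • v ∈ W ⊓ LinearMap.ker (polarBilin Q v) := by
    intro x hx
    refine ⟨polar Q v x / polar Q v v, W.sub_mem hx (W.smul_mem _ hv), ?_⟩
    change polar Q v (x - (polar Q v x / polar Q v v) • v) = 0
    rw [polar_sub_right, polar_smul_right, smul_eq_mul, div_mul_cancel₀ _ hvv, sub_self]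
  refine ⟨W ⊓ LinearMap.ker (polarBilin Q v), inf_le_left, ?_, fun x hx => hx.2, ?_⟩
  · intro x hx h
    apply hW x hx.1
    intro y hy
    obtain ⟨c, hc⟩ := key y hy
    have h1 := h _ hc
    have h3 : polar Q v x = 0 := hx.2
    rw [polar_sub_right, polar_smul_right, polar_comm Q x v, h3, smul_zero, sub_zero] at h1
    exact h1
  · have h3 : W ≤ (W ⊓ LinearMap.ker (polarBilin Q v)) ⊔ Submodule.span F {v} := by
      intro x hx
      obtain ⟨c, hc⟩ := key x hx
      have e : x = (x - c • v) + c • v := by rw [sub_add_cancel]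
      rw [e]
      exact Submodule.add_mem_sup hc (Submodule.smul_mem _ _ (Submodule.mem_span_singleton_self v))
    have h4 := Submodule.finrank_mono h3
    have h5 := Submodule.finrank_add_le_finrank_add_finrank (W ⊓ LinearMap.ker (polarBilin Q v)) (Submodule.span F {v})
    have h6 := finrank_span_le_card (R := F) ({v} : Set V)
    rw [Set.toFinset_singleton, Finset.card_singleton] at h6
    omega

theorem exists_sol [Finite F] (h2 : (2 : F) ≠ 0) {a b : F} (ha : a ≠ 0) (hb : b ≠ 0) (c : F) :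
    ∃ x y : F, x * x * a + y * y * b = c := by
  have := Fintype.ofFinite F
  classical
  have hc : Fintype.card F % 2 = 1 := by
    apply FiniteField.odd_card_of_char_ne_two
    intro h
    apply h2
    have h3 := (ringChar.spec F 2).2 (by rw [h])
    exact_mod_cast h3
  obtain ⟨x, y, hxy⟩ := FiniteField.exists_root_sum_quadratic (R := F)
    (f := Polynomial.C a * Polynomial.X ^ 2) (g := Polynomial.C b * Polynomial.X ^ 2 - Polynomial.C c)
    (by rw [Polynomial.degree_C_mul_X_pow 2 ha]; rfl)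
    (by
      rw [Polynomial.degree_sub_C (by rw [Polynomial.degree_C_mul_X_pow 2 hb]; norm_num),
        Polynomial.degree_C_mul_X_pow 2 hb]
      rfl) hc
  refine ⟨x, y, ?_⟩
  simp only [Polynomial.eval_mul, Polynomial.eval_C, Polynomial.eval_pow, Polynomial.eval_X,
    Polynomial.eval_sub] at hxy
  linear_combination hxy

theorem ne_bot {W : Submodule F V} (h : 1 ≤ finrank F W) : W ≠ ⊥ := by
  rintro rfl
  rw [finrank_bot] at h
  omega

/-- universality -/
theorem exists_val [FiniteDimensional F V] [Finite F] (h2 : (2 : F) ≠ 0) {W : Submodule F V} (hW : Nd Q W)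
    (hd : 2 ≤ finrank F W) (c : F) : ∃ u ∈ W, Q u = c := by
  obtain ⟨e, he, he0⟩ := exists_ne hW (ne_bot (by omega))
  obtain ⟨W', h1, h3, h4, h5⟩ := exists_perp h2 hW he he0
  obtain ⟨f, hf, hf0⟩ := exists_ne h3 (ne_bot (by omega))
  obtain ⟨x, y, hxy⟩ := exists_sol h2 he0 hf0 c
  refine ⟨x • e + y • f, W.add_mem (W.smul_mem _ he) (W.smul_mem _ (h1 hf)), ?_⟩
  rw [Q_add, QuadraticMap.map_smul, QuadraticMap.map_smul, polar_smul_left, polar_smul_right, h4 f hf, smul_zero,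
    smul_zero, add_zero, smul_eq_mul, smul_eq_mul, hxy]

section main

variable [FiniteDimensional F V] [Finite F]

/-- both eigenspaces of dimension `≥ 2`, one of them `≥ 4`: contradiction -/
theorem false_of_big (h2 : (2 : F) ≠ 0) {g : V ≃ₗ[F] V} (hg : g ∈ O Q)
    (hR : ∀ x y : V, Q x = 0 → Q y = 0 → polar Q x y = 0 →
      polar Q (g x) x * polar Q (g y) y = polar Q (g x) y * polar Q (g y) x) {ε : F} (hε : ε * ε = 1)
    {U W : Submodule F V} (hU : Nd Q U) (hW : Nd Q W) (hgU : ∀ v ∈ U, g v = ε • v) (hgW : ∀ v ∈ W, g v = -(ε • v))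
    (hUd : 3 ≤ finrank F U) (hWd : 2 ≤ finrank F W) : False := by
  have ho : ∀ u ∈ U, ∀ w ∈ W, polar Q u w = 0 := by
    intro u hu w hw
    have h1 := polar_map hg u w
    rw [hgU u hu, hgW w hw, polar_neg_right, polar_smul_left, polar_smul_right, smul_smul, hε, one_smul] at h1
    have h3 : 2 * polar Q u w = 0 := by linear_combination -h1
    exact (mul_eq_zero.1 h3).resolve_left h2
  obtain ⟨w₁, hw₁, hq₁⟩ := exists_ne hW (ne_bot (by omega))
  obtain ⟨W', h1, h3, h4, h5⟩ := exists_perp h2 hW hw₁ hq₁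
  obtain ⟨w₂, hw₂, hq₂⟩ := exists_ne h3 (ne_bot (by omega))
  obtain ⟨u₁, hu₁, e₁⟩ := exists_val h2 hU (by omega) (-Q w₁)
  obtain ⟨U', k1, k3, k4, k5⟩ := exists_perp h2 hU hu₁ (by rw [e₁]; exact neg_ne_zero.2 hq₁)
  obtain ⟨u₂, hu₂, e₂⟩ := exists_val h2 k3 (by omega) (-Q w₂)
  have p12 := k4 u₂ hu₂
  have q12 := h4 w₂ hw₂
  have o11 := ho u₁ hu₁ w₁ hw₁
  have o12 := ho u₁ hu₁ w₂ (h1 hw₂)
  have o21 := ho u₂ (k1 hu₂) w₁ hw₁
  have o22 := ho u₂ (k1 hu₂) w₂ (h1 hw₂)
  have hx : Q (u₁ + w₁) = 0 := by rw [Q_add, o11, e₁]; ring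
  have hy : Q (u₂ + w₂) = 0 := by rw [Q_add, o22, e₂]; ring
  have hxy : polar Q (u₁ + w₁) (u₂ + w₂) = 0 := by
    rw [polar_add_left, polar_add_right, polar_add_right, p12, q12, o12, polar_comm Q w₁ u₂, o21]
    ring
  have h6 := hR _ _ hx hy hxy
  rw [map_add, map_add, hgU u₁ hu₁, hgW w₁ hw₁, hgU u₂ (k1 hu₂), hgW w₂ (h1 hw₂)] at h6
  simp only [polar_add_left, polar_add_right, polar_neg_left, polar_smul_left, polar_self', p12, q12, o11, o12, o21,
    o22, polar_comm Q w₁ u₁, polar_comm Q w₂ u₂, polar_comm Q w₁ u₂, polar_comm Q w₂ u₁, polar_comm Q u₂ u₁,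
    polar_comm Q w₂ w₁, smul_eq_mul, e₁, e₂] at h6
  have h7 : (2 * 2) * (2 * 2) * ((ε * ε) * (Q w₁ * Q w₂)) = 0 := by linear_combination h6
  rw [hε, one_mul] at h7
  have h8 : (2 : F) * 2 ≠ 0 := mul_ne_zero h2 h2
  exact (mul_ne_zero (mul_ne_zero h8 h8) (mul_ne_zero hq₁ hq₂)) h7

omit [Finite F] in
theorem eq_span {W : Submodule F V} (h : finrank F W = 1) {z : V} (hz : z ∈ W) (hz0 : z ≠ 0) {v : V} (hv : v ∈ W) :
    ∃ c : F, v = c • z := by
  have h1 : Submodule.span F {z} = W := by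
    apply Submodule.eq_of_le_of_finrank_eq
    · rw [Submodule.span_singleton_le_iff_mem]
      exact hz
    · rw [finrank_span_singleton hz0, h]
  rw [← h1] at hv
  obtain ⟨c, hc⟩ := Submodule.mem_span_singleton.1 hv
  exact ⟨c, hc.symm⟩

/-- **box D1b** -/
theorem R1_refl (h2 : (2 : F) ≠ 0) (hQ : Nondeg Q) (hd : 7 ≤ finrank F V) {g : V ≃ₗ[F] V} (hg : g ∈ O Q)
    (hR : ∀ x y : V, Q x = 0 → Q y = 0 → polar Q x y = 0 →
      polar Q (g x) x * polar Q (g y) y = polar Q (g x) y * polar Q (g y) x)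
    (hsq : ∀ v, g (g v) = v) :
    (∃ c : F, ∀ v, g v = c • v) ∨ ∃ z, Q z ≠ 0 ∧ ((∀ v, g v = v - (polar Q z v / Q z) • z) ∨
      ∀ v, g v = (polar Q z v / Q z) • z - v) := by
  let U : Submodule F V := LinearMap.ker ((g : V →ₗ[F] V) - LinearMap.id)
  let W : Submodule F V := LinearMap.ker ((g : V →ₗ[F] V) + LinearMap.id)
  have mU : ∀ {v}, v ∈ U ↔ g v = v := by
    intro v
    rw [LinearMap.mem_ker, LinearMap.sub_apply, LinearMap.id_apply, sub_eq_zero]
    rfl
  have mW : ∀ {v}, v ∈ W ↔ g v = -v := by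
    intro v
    rw [LinearMap.mem_ker, LinearMap.add_apply, LinearMap.id_apply, add_eq_zero_iff_eq_neg]
    rfl
  have hsplit : ∀ v : V, ∃ u ∈ U, ∃ w ∈ W, v = u + w := by
    intro v
    refine ⟨(2 : F)⁻¹ • (v + g v), mU.2 ?_, (2 : F)⁻¹ • (v - g v), mW.2 ?_, ?_⟩
    · rw [map_smul, map_add, hsq, add_comm]
    · rw [map_smul, map_sub, hsq, ← smul_neg, neg_sub]
    · rw [← smul_add]
      have : v + g v + (v - g v) = (2 : F) • v := by rw [two_smul]; abel
      rw [this, smul_smul, inv_mul_cancel₀ h2, one_smul]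
  have ho : ∀ u ∈ U, ∀ w ∈ W, polar Q u w = 0 := by
    intro u hu w hw
    have h1 := polar_map hg u w
    rw [mU.1 hu, mW.1 hw, polar_neg_right] at h1
    have h3 : 2 * polar Q u w = 0 := by linear_combination -h1
    exact (mul_eq_zero.1 h3).resolve_left h2
  have hUN : Nd Q U := by
    intro x hx h
    apply hQ x
    intro y
    obtain ⟨u, hu, w, hw, rfl⟩ := hsplit y
    rw [polar_add_right, h u hu, ho x hx w hw, add_zero]
  have hWN : Nd Q W := by
    intro x hx h
    apply hQ x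
    intro y
    obtain ⟨u, hu, w, hw, rfl⟩ := hsplit y
    rw [polar_add_right, h w hw, polar_comm Q x u, ho u hu x hx, add_zero]
  have hsum : finrank F V ≤ finrank F U + finrank F W := by
    have h1 := Submodule.finrank_add_le_finrank_add_finrank U W
    have h3 : U ⊔ W = ⊤ := by
      rw [eq_top_iff]
      intro v _
      obtain ⟨u, hu, w, hw, rfl⟩ := hsplit v
      exact Submodule.add_mem_sup hu hw
    rw [h3, finrank_top] at h1
    exact h1
  have hU1 : ∀ v ∈ U, g v = (1 : F) • v := fun v hv => by rw [one_smul, mU.1 hv]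
  have hU2 : ∀ v ∈ U, g v = -((-1 : F) • v) := fun v hv => by rw [neg_one_smul, neg_neg, mU.1 hv]
  have hW1 : ∀ v ∈ W, g v = (-1 : F) • v := fun v hv => by rw [neg_one_smul, mW.1 hv]
  have hW2 : ∀ v ∈ W, g v = -((1 : F) • v) := fun v hv => by rw [one_smul, mW.1 hv]
  rcases Nat.lt_or_ge (finrank F W) 2 with hw | hw
  · rcases Nat.lt_or_ge (finrank F W) 1 with hw' | hw'
    · left
      refine ⟨1, fun v => ?_⟩
      obtain ⟨u, hu, w, hw, rfl⟩ := hsplit v
      have h3 : W = ⊥ := Submodule.finrank_eq_zero.1 (by omega)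
      rw [h3, Submodule.mem_bot] at hw
      rw [hw, add_zero]
      exact hU1 u hu
    · right
      obtain ⟨z, hz, hz0⟩ := exists_ne hWN (ne_bot hw')
      have hz1 : z ≠ 0 := by rintro rfl; exact hz0 (map_zero Q)
      refine ⟨z, hz0, Or.inl fun v => ?_⟩
      obtain ⟨u, hu, w, hw, rfl⟩ := hsplit v
      obtain ⟨c, rfl⟩ := eq_span (by omega) hz hz1 hw
      rw [map_add, mU.1 hu, mW.1 hw, polar_add_right, polar_comm Q z u, ho u hu z hz, polar_smul_right, polar_self',
        zero_add, smul_eq_mul]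
      have e : c * (2 * Q z) / Q z = 2 * c := by field_simp
      rw [e]
      module
  rcases Nat.lt_or_ge (finrank F U) 2 with hu | hu
  · rcases Nat.lt_or_ge (finrank F U) 1 with hu' | hu'
    · left
      refine ⟨-1, fun v => ?_⟩
      obtain ⟨u, hu, w, hw, rfl⟩ := hsplit v
      have h3 : U = ⊥ := Submodule.finrank_eq_zero.1 (by omega)
      rw [h3, Submodule.mem_bot] at hu
      rw [hu, zero_add]
      exact hW1 w hw
    · right
      obtain ⟨z, hz, hz0⟩ := exists_ne hUN (ne_bot hu')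
      have hz1 : z ≠ 0 := by rintro rfl; exact hz0 (map_zero Q)
      refine ⟨z, hz0, Or.inr fun v => ?_⟩
      obtain ⟨u, hu, w, hw, rfl⟩ := hsplit v
      obtain ⟨c, rfl⟩ := eq_span (by omega) hz hz1 hu
      rw [map_add, mU.1 hu, mW.1 hw, polar_add_right, ho z hz w hw, polar_smul_right, polar_self',
        add_zero, smul_eq_mul]
      have e : c * (2 * Q z) / Q z = 2 * c := by field_simp
      rw [e]
      module
  exfalso
  rcases Nat.lt_or_ge (finrank F U) 3 with h3 | h3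
  · exact false_of_big h2 hg hR (ε := -1) (by norm_num) hWN hUN hW1 hU2 (by omega) hu
  · exact false_of_big h2 hg hR (ε := 1) (by norm_num) hUN hWN hU1 hW2 h3 hw

end main

end Cfsg.Agent.H144.TW
end

-- part: H311/TW/Good
section
/-!
# S2452, `Ω_(2n+1)(q)`: good maximal totally singular subspaces (helper311, box D2 of helper781)

`exists_good`: if `g` is not scalar and `R1 Q g` fails (i.e. the form `β(x, y) = polar Q (g x) y` has rank two on a totally
singular plane), then some maximal totally singular subspace `W` meets `g⁻¹ W` non-trivially and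
`H = {w ∈ W | g w ∈ W}` has codimension at least two in `W`.
-/

set_option autoImplicit false

namespace Cfsg.Agent.H311.TW

open Module QuadraticMap Cfsg.Agent.LieClassical.OrthCore Cfsg.Agent.LieClassical.OrthTrans
  Cfsg.Agent.LieClassical.OrthFinite
open Cfsg.Agent.H434.Corn (TS MaxTS exists_maxTS ts_span_pair exists_moved exists_inf perp)

variable {F V : Type*} [Field F] [AddCommGroup V] [Module F V] {Q : QuadraticForm F V}

/-- `{w ∈ W | g w ∈ W}` -/
def HH (g : V ≃ₗ[F] V) (W : Submodule F V) : Submodule F V := W ⊓ W.comap g.toLinearMap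

/-- codimension at least two -/
def Good (g : V ≃ₗ[F] V) (W : Submodule F V) : Prop :=
  ∃ x ∈ W, ∃ y ∈ W, ∀ a b : F, g (a • x + b • y) ∈ W → a = 0 ∧ b = 0

theorem finrank_le_of_not_good [FiniteDimensional F V] {g : V ≃ₗ[F] V} {W : Submodule F V} (h : ¬ Good g W) :
    finrank F W ≤ finrank F (HH g W) + 1 := by
  by_contra hcon
  push Not at hcon
  apply h
  have hle : HH g W ≤ W := inf_le_left
  obtain ⟨x, hx, hxH⟩ : ∃ x ∈ W, x ∉ HH g W := by
    by_contra h0
    push Not at h0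
    have := Submodule.finrank_mono (show W ≤ HH g W from h0)
    omega
  have h1 : finrank F ↥(HH g W ⊔ Submodule.span F {x}) ≤ finrank F (HH g W) + 1 := by
    have h2 := Submodule.finrank_add_le_finrank_add_finrank (HH g W) (Submodule.span F {x})
    have h3 : finrank F (Submodule.span F {x}) ≤ 1 := by
      have := finrank_span_le_card (R := F) ({x} : Set V)
      simpa using this
    omega
  obtain ⟨y, hy, hyH⟩ : ∃ y ∈ W, y ∉ HH g W ⊔ Submodule.span F {x} := by
    by_contra h0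
    push Not at h0
    have := Submodule.finrank_mono (show W ≤ HH g W ⊔ Submodule.span F {x} from h0)
    omega
  refine ⟨x, hx, y, hy, fun a b hab => ?_⟩
  have hm : a • x + b • y ∈ HH g W := ⟨W.add_mem (W.smul_mem _ hx) (W.smul_mem _ hy), hab⟩
  have hb : b = 0 := by
    by_contra hb
    apply hyH
    have e : y = b⁻¹ • (a • x + b • y) + (-(b⁻¹ * a)) • x := by
      rw [smul_add, smul_smul, smul_smul, inv_mul_cancel₀ hb, neg_smul, one_smul]
      abel
    rw [e]
    exact Submodule.add_mem_sup (Submodule.smul_mem _ _ hm)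
      (Submodule.smul_mem _ _ (Submodule.mem_span_singleton_self x))
  refine ⟨?_, hb⟩
  by_contra ha
  apply hxH
  rw [hb, zero_smul, add_zero] at hm
  have e : x = a⁻¹ • (a • x) := by rw [smul_smul, inv_mul_cancel₀ ha, one_smul]
  rw [e]
  exact Submodule.smul_mem _ _ hm

theorem exists_good' [Finite F] [FiniteDimensional F V] (hQ : Nondeg Q) {g : V ≃ₗ[F] V} (hg : g ∈ O Q)
    (hs : ∀ c : F, ∃ v, g v ≠ c • v) (h4 : ∀ W, MaxTS Q W → 4 ≤ finrank F W) {x y : V} (hx : Q x = 0) (hy : Q y = 0)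
    (hxy : polar Q x y = 0) (hR : polar Q (g x) x * polar Q (g y) y ≠ polar Q (g x) y * polar Q (g y) x) :
    ∃ W, MaxTS Q W ∧ (∃ w ∈ W, w ≠ 0 ∧ g w ∈ W) ∧ ∃ x ∈ W, ∃ y ∈ W, ∀ a b : F, g (a • x + b • y) ∈ W → a = 0 ∧ b = 0 := by
  classical
  by_contra hcon
  push Not at hcon
  have hcon' : ∀ W, MaxTS Q W → (∃ w ∈ W, w ≠ 0 ∧ g w ∈ W) → ¬ Good g W := by
    rintro W hW hm ⟨x, hx, y, hy, h⟩
    obtain ⟨a, b, h1, h2⟩ := hcon W hW hm x hx y hy
    obtain ⟨h3, h5⟩ := h a b h1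
    exact h2 h3 h5
  -- the plane
  obtain ⟨W₀, hW₀s, hW₀⟩ := exists_maxTS (ts_span_pair hx hy hxy)
  have hxW : x ∈ W₀ := hW₀s (Submodule.subset_span (by simp))
  have hyW : y ∈ W₀ := hW₀s (Submodule.subset_span (by simp))
  have hgood₀ : Good g W₀ := by
    refine ⟨x, hxW, y, hyW, fun a b hab => ?_⟩
    have h1 : a * polar Q (g x) x + b * polar Q (g y) x = 0 := by
      have := hW₀.ts.pz hab hxW
      rwa [map_add, map_smul, map_smul, polar_add_left, polar_smul_left, polar_smul_left, smul_eq_mul, smul_eq_mul] at this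
    have h2 : a * polar Q (g x) y + b * polar Q (g y) y = 0 := by
      have := hW₀.ts.pz hab hyW
      rwa [map_add, map_smul, map_smul, polar_add_left, polar_smul_left, polar_smul_left, smul_eq_mul, smul_eq_mul] at this
    have hd : polar Q (g x) x * polar Q (g y) y - polar Q (g x) y * polar Q (g y) x ≠ 0 := sub_ne_zero.2 hR
    constructor
    · refine (mul_eq_zero.1 (?_ : a * (polar Q (g x) x * polar Q (g y) y - polar Q (g x) y * polar Q (g y) x) = 0)).resolve_right hd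
      linear_combination polar Q (g y) y * h1 - polar Q (g y) x * h2
    · refine (mul_eq_zero.1 (?_ : b * (polar Q (g x) x * polar Q (g y) y - polar Q (g x) y * polar Q (g y) x) = 0)).resolve_right hd
      linear_combination polar Q (g x) x * h2 - polar Q (g x) y * h1
  have hnm₀ : ¬ ∃ w ∈ W₀, w ≠ 0 ∧ g w ∈ W₀ := fun h => hcon' W₀ hW₀ h hgood₀
  -- a subspace which meets its image
  obtain ⟨Wa, hWa, -, hma⟩ := exists_moved hQ hg hs (fun W hW => (by norm_num : 3 ≤ 4).trans (h4 W hW))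
  -- maximal intersection with `Wa`
  have hb : ∃ n, ∃ W, MaxTS Q W ∧ (¬ ∃ w ∈ W, w ≠ 0 ∧ g w ∈ W) ∧ finrank F V - finrank F ↥(W ⊓ Wa) = n :=
    ⟨_, W₀, hW₀, hnm₀, rfl⟩
  obtain ⟨W₁, hW₁, hnm, hn⟩ := Nat.find_spec hb
  have hdim := hW₁.finrank_eq hWa
  obtain ⟨u, hua, hu1⟩ : ∃ u ∈ Wa, u ∉ W₁ := by
    by_contra h
    push Not at h
    have h5 : Wa ≤ W₁ := h
    have h6 : Wa = W₁ := Submodule.eq_of_le_of_finrank_eq h5 hdim
    rw [h6] at hma
    exact hnm hma
  set! U := Submodule.span F {u} ⊔ (W₁ ⊓ perp Q (Submodule.span F {u})) with hU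
  have hUm : MaxTS Q U := hW₁.neighbour (hWa.ts u hua) hu1
  have hUmeet : ∃ w ∈ U, w ≠ 0 ∧ g w ∈ U := by
    by_contra hmv
    have h5 : (W₁ ⊓ Wa) ⊔ Submodule.span F {u} ≤ U ⊓ Wa := by
      refine sup_le (le_inf ?_ inf_le_right) (le_inf le_sup_left
        ((Submodule.span_singleton_le_iff_mem _ _).2 hua))
      refine le_trans ?_ le_sup_right
      rintro k ⟨hk1, hk2⟩
      refine ⟨hk1, fun w hw => ?_⟩
      obtain ⟨c, rfl⟩ := Submodule.mem_span_singleton.1 hw
      rw [polar_smul_left, hWa.ts.pz hua hk2, smul_zero]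
    have h6 : W₁ ⊓ Wa < (W₁ ⊓ Wa) ⊔ Submodule.span F {u} := by
      refine lt_of_le_of_ne le_sup_left (fun h7 => hu1 ?_)
      have h8 : u ∈ W₁ ⊓ Wa := by
        rw [h7]; exact Submodule.mem_sup_right (Submodule.mem_span_singleton_self u)
      exact h8.1
    have h7 := Submodule.finrank_lt_finrank_of_lt h6
    have h8 := Submodule.finrank_mono h5
    have h9 := Submodule.finrank_le (U ⊓ Wa)
    exact Nat.find_min hb (m := finrank F V - finrank F ↥(U ⊓ Wa)) (by omega) ⟨U, hUm, hmv, rfl⟩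
  have hcod : finrank F U ≤ finrank F ↥(W₁ ⊓ U) + 1 := by
    have h5 : W₁ ⊓ perp Q (Submodule.span F {u}) ≤ W₁ ⊓ U := le_inf inf_le_left le_sup_right
    have h6 := Submodule.finrank_mono h5
    have h7 := Submodule.finrank_add_le_finrank_add_finrank (Submodule.span F {u})
      (W₁ ⊓ perp Q (Submodule.span F {u}))
    have h8 : finrank F (Submodule.span F {u}) ≤ 1 := by
      have := finrank_span_le_card (R := F) ({u} : Set V)
      simpa using this
    rw [← hU] at h7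
    omega
  have hHU := finrank_le_of_not_good (hcon' U hUm hUmeet)
  have hU4 := h4 U hUm
  -- `HH g U ⊓ (W₁ ⊓ U)`
  have h10 : finrank F U ≤ finrank F ↥(HH g U ⊓ (W₁ ⊓ U)) + 2 := by
    have h1 := Submodule.finrank_sup_add_finrank_inf_eq (HH g U) (W₁ ⊓ U)
    have h2 : finrank F ↥(HH g U ⊔ (W₁ ⊓ U)) ≤ finrank F U :=
      Submodule.finrank_mono (sup_le (inf_le_left : HH g U ≤ U) (inf_le_right : W₁ ⊓ U ≤ U))
    omega
  have h11 : finrank F ↥((HH g U ⊓ (W₁ ⊓ U)).map g.toLinearMap) = finrank F ↥(HH g U ⊓ (W₁ ⊓ U)) :=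
    LinearEquiv.finrank_map_eq g _
  obtain ⟨z, hz1, ⟨w, hw, rfl⟩, hz0⟩ := exists_inf (U := U) (K := W₁ ⊓ U) (L := (HH g U ⊓ (W₁ ⊓ U)).map g.toLinearMap)
    inf_le_right (by rintro _ ⟨z, hz, rfl⟩; exact hz.1.2) (by omega)
  refine hnm ⟨w, hw.2.1, ?_, hz1.1⟩
  rintro rfl
  exact hz0 (map_zero _)

/-- **Good maximal totally singular subspaces.** -/
theorem exists_good [Finite F] [FiniteDimensional F V] (hQ : Nondeg Q) {g : V ≃ₗ[F] V} (hg : g ∈ O Q)
    (hs : ∀ c : F, ∃ v, g v ≠ c • v) (h4 : ∀ W, MaxTS Q W → 4 ≤ finrank F W) (hR : ¬ H781.TW.R1 Q g) :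
    ∃ W, MaxTS Q W ∧ (∃ w ∈ W, w ≠ 0 ∧ g w ∈ W) ∧ ∃ x ∈ W, ∃ y ∈ W, ∀ a b : F, g (a • x + b • y) ∈ W → a = 0 ∧ b = 0 := by
  unfold H781.TW.R1 at hR
  push Not at hR
  obtain ⟨x, y, hx, hy, hxy, h⟩ := hR
  exact exists_good' hQ hg hs h4 hx hy hxy h

end Cfsg.Agent.H311.TW
end

-- part: H455/TW/Asm
section
/-!
# S2452, `Ω_(2n+1)(q)`, `q` odd, `n` even: assembly (helper455)

* `twoOf_of_good` : `TwoOf` from the good case (helper370's glue).
* `t52_odd_even_of` : the row from the good case.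
-/

set_option autoImplicit false

namespace Cfsg.Agent.H455.TW

open Module QuadraticMap Matrix Polynomial Cfsg.Agent.LieClassical Cfsg.Agent.LieClassical.OrthCore
  Cfsg.Agent.LieClassical.OrthTrans Cfsg.Agent.LieClassical.OrthFinite Cfsg.Agent.LieClassical.OrthForms
  Cfsg.Agent.H140.OreO Cfsg.Agent.H962.PP Cfsg.Agent.H141.SpinFacts Cfsg.Agent.H781.TC6
open Cfsg.Agent.H434.Corn (MaxTS exists_maxTS)
open Cfsg.Agent.H140.TC
open Cfsg.Agent.H588.TW (T52)

/-- the good case: the output of `goodFrame` suffices -/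
def GoodPr {F V : Type*} [Field F] [AddCommGroup V] [Module F V] (Q : QuadraticForm F V) {m : ℕ}
    (x₀ y₀ : V ≃ₗ[F] V) : Prop :=
  ∀ g ∈ Om Q, ∀ w w' : Fin m → V, Frame Q w w' → SchurOne Q g w w' → (corner Q g w w').det = 1 →
    ∀ c : Fin m → F, (∀ d : F, corner Q g w w' *ᵥ c ≠ d • c) →
      (∀ v, (∀ i, polar Q (w i) v = 0 ∧ polar Q (w' i) v = 0) → polar Q (g (∑ i, c i • w i)) v = 0) →
      ∃ u ∈ Om Q, ∃ v ∈ Om Q, g = (u * x₀ * u⁻¹) * (v * y₀ * v⁻¹)

theorem twoOf_of_good {F V : Type*} [Field F] [AddCommGroup V] [Module F V] {Q : QuadraticForm F V}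
    [Finite F] [FiniteDimensional F V] (h2 : (2 : F) ≠ 0) (hQ : Nondeg Q) {m : ℕ}
    (hV : finrank F V = 2 * m + 1) (hm : 4 ≤ m) (hme : Even m) {e e' : Fin m → V} (hf : Frame Q e e')
    {X₀ Y₀ T T' : GL (Fin m) F} (hXY : X₀ * Y₀ = -1)
    (hTX : T * X₀ = X₀ * T) (hT : ¬ IsSquare (T : Matrix (Fin m) (Fin m) F).det)
    (hTY : T' * Y₀ = Y₀ * T') (hT' : ¬ IsSquare (T' : Matrix (Fin m) (Fin m) F).det)
    (H : GoodPr Q (m := m) ((autE hf.toModel).symm (lev X₀ 1)) ((autE hf.toModel).symm (lev Y₀ 1))) :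
    TwoOf Q ((autE hf.toModel).symm (lev X₀ 1)) ((autE hf.toModel).symm (lev Y₀ 1)) := by
  intro g hg hns
  have hgO : g ∈ O Q := Om_le hg
  have hW : ∀ W, MaxTS Q W → finrank F W = m := by
    intro W hW
    have h1 := hW.bounds hQ
    omega
  by_cases hR : Cfsg.Agent.H781.TW.R1 Q g
  · obtain ⟨W, -, hW'⟩ := exists_maxTS (Q := Q) (T := (⊥ : Submodule F V)) (fun x hx => by
      rw [(Submodule.mem_bot F).1 hx, QuadraticMap.map_zero])
    have hsq := Cfsg.Agent.H140.TW.R1_sq h2 hQ ⟨W, hW', by rw [hW W hW']; omega⟩ hgO hR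
    rcases Cfsg.Agent.H144.TW.R1_refl h2 hQ (by omega) hgO hR hsq with ⟨c, hc⟩ | ⟨z, hz, h | h⟩
    · obtain ⟨v, hv⟩ := hns c
      exact absurd (hc v) hv
    · exfalso
      have h3 : g = refl Q z hz := by
        apply LinearEquiv.ext
        intro v
        rw [h, refl_apply, div_eq_inv_mul]
      have h4 := Cfsg.Agent.H141.SpinFacts.det_eq_one hg
      rw [h3, Cfsg.Agent.H160.QSpin.det_refl hz] at h4
      have h5 := congrArg Units.val h4
      rw [Units.val_neg, Units.val_one] at h5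
      apply h2
      linear_combination -h5
    · exact neg_refl h2 hQ hV (by omega) hme hf hXY hTX hT hTY hT' hg hz h
  · obtain ⟨W, hW', h1, h3⟩ := Cfsg.Agent.H311.TW.exists_good hQ hgO hns
      (fun W hW' => by rw [hW W hW']; exact hm) hR
    obtain ⟨w, w', hfw, hS, hdet, c, hc, hc'⟩ :=
      Cfsg.Agent.H140.TW.goodFrame hQ hg hV hW' (hW W hW') h1 h3 (one_ne_zero (α := F))
    exact H g hg w w' hfw hS (by rw [hdet, mul_one]) c hc hc'

/-- **The row from the good case.** -/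
theorem t52_odd_even_of {F : Type*} [Field F] [Fintype F] (hodd : Odd (Fintype.card F)) {k : ℕ} (hk : 2 ≤ k)
    (hke : Even k)
    (H : ∀ (r : ℕ) (f : F[X]) (B : GL (Fin (k + 1)) F) (X₀ Y₀ : GL (Fin (k + 2)) F) (e e' : Fin (k + 2) → _)
      (hf : Frame (oddForm (k + 2) F) e e'), r.Prime → r.Coprime 6 → GF (k + 1) r f →
      (B : Matrix (Fin (k + 1)) (Fin (k + 1)) F).charpoly = f →
      (B : Matrix (Fin (k + 1)) (Fin (k + 1)) F).det = 1 → B ^ r = 1 →
      (X₀ : Matrix (Fin (k + 2)) (Fin (k + 2)) F) = blk 1 B →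
      (Y₀ : Matrix (Fin (k + 2)) (Fin (k + 2)) F) =
        blk (-1) (-((B⁻¹ : GL (Fin (k + 1)) F) : Matrix (Fin (k + 1)) (Fin (k + 1)) F)) →
      GoodPr (oddForm (k + 2) F) (m := k + 2) ((autE hf.toModel).symm (lev X₀ 1))
        ((autE hf.toModel).symm (lev Y₀ 1))) :
    T52 (Cfsg.POmega F (Cfsg.quadFormOdd (k + 2) F)) := by
  have h2 : (2 : F) ≠ 0 := by
    intro h0
    have : CharP F 2 := CharTwo.of_one_ne_zero_of_two_eq_zero one_ne_zero h0
    have h3 := (FiniteField.even_card_iff_char_two (F := F)).1 (ringChar.eq F 2)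
    rw [Nat.odd_iff] at hodd
    omega
  obtain ⟨ν, hν⟩ : ∃ ν : F, ¬ IsSquare ν := FiniteField.exists_nonsquare (by
    intro h
    have h3 := (FiniteField.even_card_iff_char_two (F := F)).1 h
    rw [Nat.odd_iff] at hodd
    omega)
  have hν0 : ν ≠ 0 := by rintro rfl; exact hν IsSquare.zero
  refine Cfsg.Agent.H370.TW.t52_odd_inv hodd hk hke ?_
  intro r f B X₀ Y₀ e e' hf hr hr6 hgf hB hBd hBr hX₀ hY₀
  obtain ⟨T, hT⟩ : ∃ T : GL (Fin (k + 2)) F, (T : Matrix (Fin (k + 2)) (Fin (k + 2)) F) = blk ν 1 :=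
    ⟨Matrix.GeneralLinearGroup.mkOfDetNeZero (blk ν (1 : Matrix (Fin (k + 1)) (Fin (k + 1)) F))
      (by rw [blk_det, det_one, mul_one]; exact hν0), rfl⟩
  have hTd : ¬ IsSquare (T : Matrix (Fin (k + 2)) (Fin (k + 2)) F).det := by
    rw [hT, blk_det, det_one, mul_one]
    exact hν
  have hBB : (B : Matrix (Fin (k + 1)) (Fin (k + 1)) F) *
      ((B⁻¹ : GL (Fin (k + 1)) F) : Matrix (Fin (k + 1)) (Fin (k + 1)) F) = 1 := by
    rw [← Units.val_mul, mul_inv_cancel, Units.val_one]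
  refine twoOf_of_good h2 (nondeg_oddForm (k + 2) F h2) ?_ (by omega) (hke.add (by decide)) hf
    (T := T) (T' := T) ?_ ?_ hTd ?_ hTd (H r f B X₀ Y₀ e e' hf hr hr6 hgf hB hBd hBr hX₀ hY₀)
  · rw [Module.finrank_fintype_fun_eq_card]
    simp only [Fintype.card_sum, Fintype.card_unit, Fintype.card_fin]
    ring
  · apply Units.ext
    have e1 : (blk (-1 : F) (-(1 : Matrix (Fin (k + 1)) (Fin (k + 1)) F))) = -blk 1 1 := by
      ext i j
      refine Fin.cases ?_ (fun i' => ?_) i <;> refine Fin.cases ?_ (fun j' => ?_) j <;> simp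
    rw [Units.val_mul, hX₀, hY₀, blk_mul, one_mul, mul_neg, hBB, Units.val_neg, Units.val_one, e1, blk_one]
  · apply Units.ext
    rw [Units.val_mul, Units.val_mul, hX₀, hT, blk_mul, blk_mul, mul_comm, one_mul, one_mul, mul_one]
  · apply Units.ext
    rw [Units.val_mul, Units.val_mul, hY₀, hT, blk_mul, blk_mul, mul_comm, one_mul, mul_one]

end Cfsg.Agent.H455.TW
end
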